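import Mathlib
import Cfsg.Agent.Constrained.Basic
import Cfsg.Agent.Constrained.PSolvable
import Cfsg.Agent.Constrained.PLength

/-!
Bounding the `p`-length by the exponent of the Sylow `p`-subgroups.
-/

set_option autoImplicit false

namespace CfsgLib.PLengthExp

universe u

open Cfsg

/-- All `p`-elements of `G` satisfy `g ^ p ^ e = 1`. -/
def ExpLE (p e : ℕ) (G : Type*) [Group G] : Prop :=
  ∀ g : G, (∃ k : ℕ, g ^ p ^ k = 1) → g ^ p ^ e = 1

/-- Every `p`-element `x` outside `O_p(G)`, of order `p ^ n` modulo `O_p(G)`, admits `v ∈ O_p(G)` with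
`(v * x) ^ (p ^ n) ≠ x ^ (p ^ n)`. -/
def Drops (p : ℕ) (G : Type*) [Group G] : Prop :=
  ∀ (x : G) (n : ℕ), (∃ k : ℕ, x ^ p ^ k = 1) → x ^ p ^ n ∉ pCore p G → x ^ p ^ (n + 1) ∈ pCore p G →
    ∃ v ∈ pCore p G, (v * x) ^ p ^ (n + 1) ≠ x ^ p ^ (n + 1)

variable {G : Type*} [Group G]

theorem expLE_of_sylow [Finite G] {p : ℕ} [Fact p.Prime] {e : ℕ}
    (h : ∀ (P : Sylow p G), ∀ x ∈ (P : Subgroup G), x ^ p ^ e = 1) : ExpLE p e G := by
  rintro g ⟨k, hk⟩
  obtain ⟨i, -, hi⟩ := (Nat.dvd_prime_pow (Fact.out : p.Prime)).1 (orderOf_dvd_of_pow_eq_one hk)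
  obtain ⟨P, hP⟩ := (IsPGroup.of_card (p := p) (n := i)
    (show Nat.card (Subgroup.zpowers g) = p ^ i by rw [Nat.card_zpowers, hi])).exists_le_sylow
  exact h P g (hP (Subgroup.mem_zpowers g))

theorem exists_preimage_pow {H : Type*} [Group H] [Finite G] {p : ℕ} [Fact p.Prime] (f : G →* H)
    (hf : Function.Surjective f) {y : H} (hy : ∃ k : ℕ, y ^ p ^ k = 1) :
    ∃ g : G, (∃ k : ℕ, g ^ p ^ k = 1) ∧ f g = y := by
  have hp : p.Prime := Fact.out
  obtain ⟨k, hk⟩ := hy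
  obtain ⟨g, rfl⟩ := hf y
  obtain ⟨a, b, hb, hab⟩ := Nat.exists_eq_pow_mul_and_not_dvd (orderOf_pos g).ne' p hp.ne_one
  have hcop : b.Coprime (p ^ k) :=
    ((Nat.Prime.coprime_iff_not_dvd hp).2 hb).symm.pow_right k
  obtain ⟨c, hc⟩ := exists_pow_eq_self_of_coprime (x := f g) (n := b)
    (Nat.Coprime.coprime_dvd_right (orderOf_dvd_of_pow_eq_one hk) hcop)
  refine ⟨g ^ (b * c), ⟨a, ?_⟩, by rw [map_pow, pow_mul, hc]⟩
  rw [← pow_mul, show b * c * p ^ a = p ^ a * b * c by ring, ← hab, pow_mul, pow_orderOf_eq_one,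
    one_pow]

theorem ExpLE.of_surjective {H : Type*} [Group H] [Finite G] {p : ℕ} [Fact p.Prime] {e : ℕ}
    (h : ExpLE p e G) (f : G →* H) (hf : Function.Surjective f) : ExpLE p e H := by
  intro y hy
  obtain ⟨g, hg, rfl⟩ := exists_preimage_pow (p := p) f hf hy
  rw [← map_pow, h g hg, map_one]

theorem exists_pow_eq_one_mul [Finite G] {p : ℕ} [Fact p.Prime] {P : Subgroup G} [P.Normal]
    (hP : IsPGroup p P) {v x : G} (hv : v ∈ P) (hx : ∃ k : ℕ, x ^ p ^ k = 1) :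
    ∃ k : ℕ, (v * x) ^ p ^ k = 1 := by
  obtain ⟨k, hk⟩ := hx
  have h1 : (v * x) ^ p ^ k ∈ P := by
    rw [← QuotientGroup.eq_one_iff, QuotientGroup.mk_pow, QuotientGroup.mk_mul,
      (QuotientGroup.eq_one_iff v).2 hv, one_mul, ← QuotientGroup.mk_pow, hk, QuotientGroup.mk_one]
  obtain ⟨l, hl⟩ := hP ⟨_, h1⟩
  exact ⟨k + l, by rw [pow_add, pow_mul]; exact congrArg Subtype.val hl⟩

/-- The exponent drops on factoring `O_p(G)` out. -/
theorem pow_mem_pCore [Finite G] {p : ℕ} [Fact p.Prime] (hdrop : Drops p G) {e : ℕ}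
    (hexp : ExpLE p (e + 1) G) {x : G} (hx : ∃ k : ℕ, x ^ p ^ k = 1) :
    x ^ p ^ e ∈ pCore p G := by
  by_contra hne
  obtain ⟨v, hv, hv'⟩ := hdrop x e hx hne (by rw [hexp x hx]; exact one_mem _)
  refine hv' ?_
  rw [hexp x hx, hexp _ (exists_pow_eq_one_mul CfsgLib.Constrained.isPGroup_pCore hv hx)]

/-- The general reduction: in a quotient closed class where the exponent drops, the `p`-length is
at most the exponent. -/
theorem pLengthLE_of_drops {p : ℕ} [Fact p.Prime] (C : ∀ (K : Type u) [Group K], Prop)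
    (hquot : ∀ (K : Type u) [Group K] [Finite K] (N : Subgroup K) [N.Normal], C K → C (K ⧸ N))
    (hdrop : ∀ (K : Type u) [Group K] [Finite K], C K → pPrimeCore p K = ⊥ → Drops p K) :
    ∀ (e : ℕ) (K : Type u) [Group K] [Finite K], C K → ExpLE p e K → PLengthLE p e K := by
  intro e
  induction e with
  | zero =>
    intro K _ _ _ hexp
    rw [CfsgLib.Constrained.pLengthLE_zero_iff]
    intro hd
    obtain ⟨x, hx⟩ := exists_prime_orderOf_dvd_card' p hd
    have := hexp x ⟨1, by rw [pow_one, ← hx, pow_orderOf_eq_one]⟩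
    rw [pow_zero, pow_one] at this
    rw [this, orderOf_one] at hx
    exact (Fact.out : p.Prime).ne_one hx.symm
  | succ e ih =>
    intro K _ _ hC hexp
    refine CfsgLib.Constrained.pLengthLE_succ_of_quotient (ih _ (hquot K _ hC) ?_)
    intro y hy
    obtain ⟨x, hx, rfl⟩ := exists_preimage_pow (p := p) (QuotientGroup.mk' (pPrimePCore p K))
      (QuotientGroup.mk'_surjective _) hy
    rw [← map_pow, QuotientGroup.mk'_apply, QuotientGroup.eq_one_iff, pPrimePCore, Subgroup.mem_comap,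
      map_pow]
    refine pow_mem_pCore (hdrop _ (hquot K _ hC) CfsgLib.Constrained.pPrimeCore_quotient_pPrimeCore)
      (hexp.of_surjective _ (QuotientGroup.mk'_surjective _)) ?_
    obtain ⟨k, hk⟩ := hx
    exact ⟨k, by rw [← map_pow, hk, map_one]⟩

/-- `(v * x) ^ N` is the product of the conjugates of `v` times `x ^ N`, seen in an abelian quotient. -/
theorem map_mul_pow {V : Type*} [CommGroup V] (P : Subgroup G) [P.Normal] (f : P →* V) {v : G}
    (hv : v ∈ P) (x : G) (N : ℕ) :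
    ∃ h : (v * x) ^ N * (x ^ N)⁻¹ ∈ P,
      f ⟨_, h⟩ = ∏ i ∈ Finset.range N, f ⟨x ^ i * v * (x ^ i)⁻¹,
        Subgroup.Normal.conj_mem inferInstance v hv (x ^ i)⟩ := by
  induction N with
  | zero => exact ⟨by simp, (congrArg f (Subtype.ext (by simp) : (⟨(v * x) ^ 0 * (x ^ 0)⁻¹, by simp⟩ : P) = 1)).trans
      (by simp)⟩
  | succ N ih =>
    obtain ⟨h, hf⟩ := ih
    have hc : x ^ N * v * (x ^ N)⁻¹ ∈ P := Subgroup.Normal.conj_mem inferInstance v hv (x ^ N)
    have e : (v * x) ^ (N + 1) * (x ^ (N + 1))⁻¹ =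
        (v * x) ^ N * (x ^ N)⁻¹ * (x ^ N * v * (x ^ N)⁻¹) := by
      rw [pow_succ, pow_succ]; group
    refine ⟨e ▸ mul_mem h hc, ?_⟩
    rw [Finset.prod_range_succ, ← hf, ← map_mul]
    exact congrArg f (Subtype.ext e)

end CfsgLib.PLengthExp
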