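import Mathlib
import Cfsg.Agent.Constrained.HallHigman
import Cfsg.Agent.PGroup.Frattini
import Cfsg.Agent.Frobenius57.ElementOrder
import Cfsg.Agent.PLengthExp.Basic

/-!
The module `O_p(K) / Φ(O_p(K))` over an algebraically closed field, and the passage from a non-vanishing
norm to a drop of the exponent.
-/

set_option autoImplicit false

open scoped TensorProduct commutatorElement

namespace CfsgLib.PLengthExp

universe u

open Cfsg

variable (p : ℕ) [Fact p.Prime] (K : Type u) [Group K] [Finite K]

/-- `O_p(K) / Φ(O_p(K))`. -/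
abbrev FrattQuot : Type u := ↥(pCore p K) ⧸ frattini ↥(pCore p K)

theorem frattQuot_comm (a b : FrattQuot p K) : a * b = b * a := by
  induction a using QuotientGroup.induction_on with
  | _ a =>
    induction b using QuotientGroup.induction_on with
    | _ b =>
      rw [← QuotientGroup.mk_mul, ← QuotientGroup.mk_mul, QuotientGroup.eq]
      have : (a * b)⁻¹ * (b * a) = ⁅b⁻¹, a⁻¹⁆ := by rw [commutatorElement_def]; group
      rw [this]
      exact CfsgLib.PGroup.commutator_le_frattini CfsgLib.Constrained.isPGroup_pCore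
        (Subgroup.commutator_mem_commutator (Subgroup.mem_top _) (Subgroup.mem_top _))

instance instCommGroupFrattQuot : CommGroup (FrattQuot p K) where
  mul_comm := frattQuot_comm p K

theorem frattQuot_nsmul (v : Additive (FrattQuot p K)) : p • v = 0 := by
  refine Additive.toMul.injective ?_
  show (Additive.toMul v) ^ p = 1
  induction Additive.toMul v using QuotientGroup.induction_on with
  | _ a =>
    rw [← QuotientGroup.mk_pow, QuotientGroup.eq_one_iff]
    exact CfsgLib.PGroup.pow_prime_mem_frattini CfsgLib.Constrained.isPGroup_pCore a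

noncomputable instance instModuleFrattQuot : Module (ZMod p) (Additive (FrattQuot p K)) :=
  AddCommGroup.zmodModule (frattQuot_nsmul p K)

/-- The automorphism of `FrattQuot` given by conjugation. -/
noncomputable def conjAut : K →* MulAut (FrattQuot p K) :=
  MonoidHom.mk' (fun g => QuotientGroup.congr _ _ (MulAut.conjNormal g)
      (Subgroup.characteristic_iff_map_eq.1 inferInstance _)) fun a b => MulEquiv.ext fun v => by
    induction v using QuotientGroup.induction_on with
    | _ v =>
      show ((MulAut.conjNormal (a * b) v : ↥(pCore p K)) : FrattQuot p K) =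
        ((MulAut.conjNormal a (MulAut.conjNormal b v) : ↥(pCore p K)) : FrattQuot p K)
      rw [map_mul, MulAut.mul_apply]

theorem conjAut_mk (g : K) (v : ↥(pCore p K)) :
    conjAut p K g (v : FrattQuot p K) = ((MulAut.conjNormal g v : ↥(pCore p K)) : FrattQuot p K) := rfl

theorem pCore_le_ker : pCore p K ≤ (conjAut p K).ker := by
  intro g hg
  refine MulEquiv.ext fun v => ?_
  induction v using QuotientGroup.induction_on with
  | _ v =>
    rw [conjAut_mk, MulAut.one_apply]
    have h : (⟨g, hg⟩ : ↥(pCore p K)) * v * (⟨g, hg⟩ : ↥(pCore p K))⁻¹ = MulAut.conjNormal g v :=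
      Subtype.ext (by simp [MulAut.conjNormal_apply])
    rw [← h, QuotientGroup.mk_mul, QuotientGroup.mk_mul, frattQuot_comm p K ((⟨g, hg⟩ : ↥(pCore p K)) : FrattQuot p K),
      QuotientGroup.mk_inv, mul_inv_cancel_right]

/-- Automorphisms as linear maps. -/
noncomputable def autLin : MulAut (FrattQuot p K) →* Module.End (ZMod p) (Additive (FrattQuot p K)) where
  toFun σ := (MulEquiv.toAdditive σ).toAddMonoidHom.toZModLinearMap p
  map_one' := LinearMap.ext fun _ => rfl
  map_mul' _ _ := LinearMap.ext fun _ => rfl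

/-- The field. -/
abbrev Clo : Type := AlgebraicClosure (ZMod p)

/-- The module. -/
abbrev Mod : Type u := Clo p ⊗[ZMod p] Additive (FrattQuot p K)

/-- The representation of `K / O_p(K)`. -/
noncomputable def rep : (K ⧸ pCore p K) →* Module.End (Clo p) (Mod p K) :=
  ((Module.End.baseChangeHom (ZMod p) (Clo p) (Additive (FrattQuot p K))).toMonoidHom.comp (autLin p K)).comp
    (QuotientGroup.lift (pCore p K) (conjAut p K) (pCore_le_ker p K))

theorem rep_mk (g : K) : rep p K (g : K ⧸ pCore p K) =
    ((autLin p K (conjAut p K g)).baseChange (Clo p)) := rfl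

theorem baseChange_injective (f g : Module.End (ZMod p) (Additive (FrattQuot p K)))
    (h : f.baseChange (Clo p) = g.baseChange (Clo p)) : f = g := by
  refine LinearMap.ext fun v => ?_
  have h1 := DFunLike.congr_fun h ((1 : Clo p) ⊗ₜ v)
  rw [LinearMap.baseChange_tmul, LinearMap.baseChange_tmul] at h1
  exact Module.FaithfullyFlat.tensorProduct_mk_injective (A := ZMod p) (B := Clo p)
    (Additive (FrattQuot p K)) h1

/-- A non-vanishing norm gives a drop. -/
theorem exists_mul_pow_ne {x : K} {N : ℕ}
    (h : ∑ i ∈ Finset.range N, rep p K ((x : K ⧸ pCore p K) ^ i) ≠ 0) :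
    ∃ v ∈ pCore p K, (v * x) ^ N ≠ x ^ N := by
  by_contra hcon
  push Not at hcon
  apply h
  have key : ∑ i ∈ Finset.range N, autLin p K (conjAut p K (x ^ i)) = 0 := by
    refine LinearMap.ext fun v => ?_
    obtain ⟨⟨a, ha⟩, hav⟩ := QuotientGroup.mk_surjective (Additive.toMul v)
    obtain ⟨hm, hf⟩ := map_mul_pow (pCore p K) (QuotientGroup.mk' (frattini ↥(pCore p K))) ha x N
    have h1 : (⟨(a * x) ^ N * (x ^ N)⁻¹, hm⟩ : ↥(pCore p K)) = 1 := Subtype.ext (by simp [hcon a ha])
    rw [h1, map_one] at hf
    rw [LinearMap.sum_apply, LinearMap.zero_apply]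
    refine Additive.toMul.injective ?_
    rw [toMul_sum, toMul_zero]
    refine Eq.trans ?_ hf.symm
    refine Finset.prod_congr rfl fun i _ => ?_
    show conjAut p K (x ^ i) (Additive.toMul v) = _
    rw [← hav, conjAut_mk]
    rfl
  calc ∑ i ∈ Finset.range N, rep p K ((x : K ⧸ pCore p K) ^ i)
      = ∑ i ∈ Finset.range N, (autLin p K (conjAut p K (x ^ i))).baseChange (Clo p) := by
        refine Finset.sum_congr rfl fun i _ => ?_
        rw [← QuotientGroup.mk_pow, rep_mk]
    _ = (Module.End.baseChangeHom (ZMod p) (Clo p) (Additive (FrattQuot p K)))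
          (∑ i ∈ Finset.range N, autLin p K (conjAut p K (x ^ i))) := by rw [map_sum]; rfl
    _ = 0 := by rw [key, map_zero]

/-- The representation is faithful on elements of order prime to `p`. -/
theorem eq_one_of_rep_eq_one (hG : IsPSolvable p K) (hO : pPrimeCore p K = ⊥) {h : K ⧸ pCore p K}
    {q : ℕ} (hq : q.Prime) (hqp : q ≠ p) (ho : ∃ a, h ^ q ^ a = 1) (hrep : rep p K h = 1) : h = 1 := by
  haveI := Fact.mk hq
  obtain ⟨g, ⟨a, hg⟩, rfl⟩ := exists_preimage_pow (p := q) (QuotientGroup.mk' (pCore p K))
    (QuotientGroup.mk'_surjective _) ho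
  have h1 : autLin p K (conjAut p K g) = 1 := baseChange_injective p K _ _ (by
    rw [show (QuotientGroup.mk' (pCore p K)) g = (g : K ⧸ pCore p K) from rfl, rep_mk] at hrep
    rw [hrep, Module.End.one_eq_id, Module.End.one_eq_id, LinearMap.baseChange_id])
  have h2 : (MulAut.conjNormal g : MulAut ↥(pCore p K)) = 1 := by
    refine CfsgLib.Frobenius57.aut_eq_one_of_frattini (p := p) (q := q) (a := a) hqp.symm
      CfsgLib.Constrained.isPGroup_pCore _ (by rw [← map_pow, hg, map_one]) fun v => ?_
    rw [← QuotientGroup.eq, ← conjAut_mk]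
    exact congrArg Additive.toMul (DFunLike.congr_fun h1 (Additive.ofMul (v : FrattQuot p K))) |>.symm
  refine (QuotientGroup.eq_one_iff g).2 (CfsgLib.Constrained.centralizer_pCore_le hG hO ?_)
  refine Subgroup.mem_centralizer_iff.2 fun v hv => ?_
  have h3 := congrArg Subtype.val (DFunLike.congr_fun h2 ⟨v, hv⟩)
  simp only [MulAut.conjNormal_apply, MulAut.one_apply] at h3
  exact (mul_inv_eq_iff_eq_mul.1 h3).symm

end CfsgLib.PLengthExp
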