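import Mathlib
import Cfsg.Agent.TISolvable.Minimal
import Cfsg.Agent.Coprime44.InvariantSylow
import Cfsg.Agent.FpfAut.NormZero
import Cfsg.Agent.PLengthExp.Module

/-!
Elements of order `p ^ n` moving an abelian `p'`-group have non-zero norm: the exponent bound for the
`p`-length when the other Sylow subgroups are abelian.
-/

set_option autoImplicit false

namespace CfsgLib.PLengthExp

universe u

open Cfsg

/-- If `y = x ^ p ^ n` moves the image of an abelian coprime subgroup `R` normalized by `x`, and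
`x ^ p ^ (n+1)` commutes with that image, then the norm of `x` of length `p ^ (n+1)` is non-zero. -/
theorem norm_ne_zero_of_abelian {k : Type*} [Field k] [IsSepClosed k] {E : Type*} [AddCommGroup E]
    [Module k E] {H : Type*} [Group H] [Finite H] (ρ : H →* Module.End k E) {p : ℕ} (hp : p.Prime) (n : ℕ)
    (x : H) (R : Subgroup H) (hRk : (Nat.card R : k) ≠ 0) (hab : ∀ a ∈ R, ∀ b ∈ R, a * b = b * a)
    (hx : x ∈ Subgroup.normalizer (R : Set H)) {r : H} (hr : r ∈ R)
    (hy : ρ ((x ^ p ^ n)⁻¹ * r * x ^ p ^ n) ≠ ρ r)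
    (hN : ρ (x ^ p ^ (n + 1)) = 1) :
    ∑ i ∈ Finset.range (p ^ (n + 1)), ρ (x ^ i) ≠ 0 := by
  classical
  letI : CommGroup R := { (inferInstance : Group R) with
    mul_comm := fun a b => Subtype.ext (hab _ a.2 _ b.2) }
  letI : Fintype R := Fintype.ofFinite R
  let c : ℤ → MulAut R := fun i =>
    R.normalizerMonoidHom (⟨x, hx⟩ ^ i)⁻¹
  have hc : ∀ (i : ℤ) (s : R), ((c i s : R) : H) = (x ^ i)⁻¹ * s * x ^ i := fun i s => by
    have h : ((c i s : R) : H) =
        ((((⟨x, hx⟩ : Subgroup.normalizer (R : Set H)) ^ i)⁻¹ : Subgroup.normalizer (R : Set H)) : H) * s *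
        ((((⟨x, hx⟩ : Subgroup.normalizer (R : Set H)) ^ i)⁻¹ : Subgroup.normalizer (R : Set H)) : H)⁻¹ :=
      rfl
    rw [h, Subgroup.coe_inv, Subgroup.coe_zpow, inv_inv]
  set y := x ^ p ^ n with hydef
  let σ : R →* Module.End k E := ρ.comp R.subtype
  have hyr : (y⁻¹ * r * y) ∈ R := by
    have h := (c ((p ^ n : ℕ) : ℤ) ⟨r, hr⟩).2
    rwa [hc, zpow_natCast] at h
  -- an eigen vector with a moved character
  obtain ⟨χ, w, hw, hφ⟩ : ∃ (χ : R →* kˣ) (w : E), (∀ z, σ z w = (χ z : k) • w) ∧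
      (ρ (y⁻¹ * r * y) - ρ r) w ≠ 0 := by
    by_contra hcon
    push Not at hcon
    exact hy (sub_eq_zero.1 (CfsgLib.FpfAut.eq_zero_of_eigen hRk σ _ hcon))
  have hw0 : w ≠ 0 := fun h => hφ (by rw [h, map_zero])
  let χi : ℤ → (R →* kˣ) := fun i => χ.comp (c i).toMonoidHom
  have hadd : ∀ i j : ℤ, χi (i + j) = (χi i).comp (c j).toMonoidHom := by
    intro i j
    refine MonoidHom.ext fun s => ?_
    show χ (c (i + j) s) = χ (c i (c j s))
    congr 1
    apply Subtype.ext
    rw [hc, hc, hc, zpow_add, mul_inv_rev]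
    simp only [mul_assoc]
    group
  have heig : ∀ (i : ℤ) (s : R), σ s (ρ (x ^ i) w) = (χi i s : k) • ρ (x ^ i) w := by
    intro i s
    have h1 : (s : H) * x ^ i = x ^ i * (c i s : R) := by rw [hc]; group
    show ρ s (ρ (x ^ i) w) = _
    rw [← Module.End.mul_apply, ← map_mul, h1, map_mul, Module.End.mul_apply, ← map_smul]
    congr 1
    exact hw (c i s)
  have hmove : χi (p ^ n : ℕ) ≠ χ := by
    intro h
    apply hφ
    have h1 : ρ (y⁻¹ * r * y) w = (χi (p ^ n : ℕ) ⟨r, hr⟩ : k) • w := by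
      have := hw (c ((p ^ n : ℕ) : ℤ) ⟨r, hr⟩)
      show ρ (y⁻¹ * r * y) w = (χ (c ((p ^ n : ℕ) : ℤ) ⟨r, hr⟩) : k) • w
      rw [← this]
      show ρ (y⁻¹ * r * y) w = ρ ((c ((p ^ n : ℕ) : ℤ) ⟨r, hr⟩ : R) : H) w
      rw [hc, zpow_natCast]
    rw [LinearMap.sub_apply, h1, h, ← hw ⟨r, hr⟩]
    exact sub_self _
  have hper : χi (p ^ (n + 1) : ℕ) = χ := by
    refine MonoidHom.ext fun s => Units.ext ?_
    have h1 : ρ ((c (p ^ (n + 1) : ℕ) s : R) : H) = ρ (s : H) := by
      rw [hc, zpow_natCast]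
      calc ρ ((x ^ p ^ (n + 1))⁻¹ * s * x ^ p ^ (n + 1))
          = ρ ((x ^ p ^ (n + 1))⁻¹) * ρ (x ^ p ^ (n + 1)) * ρ (s : H) := by
            rw [map_mul, map_mul, hN, mul_one, mul_one]
        _ = ρ (s : H) := by rw [← map_mul ρ, inv_mul_cancel, map_one, one_mul]
    have h2 : (χ (c (p ^ (n + 1) : ℕ) s) : k) • w = (χ s : k) • w := by
      rw [← hw, ← hw]
      exact congrArg (fun f : Module.End k E => f w) h1
    exact smul_left_injective k hw0 h2
  -- distinctness
  have hdist : ∀ i : ℕ, i < p ^ (n + 1) → χi i = χ → i = 0 := by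
    intro i hi h
    by_contra hi0
    let S : AddSubgroup ℤ :=
      { carrier := {j | χi j = χ}
        add_mem' := fun {a b} (ha : χi a = χ) (hb : χi b = χ) => by
          show χi (a + b) = χ
          rw [hadd, ha]; exact hb
        zero_mem' := MonoidHom.ext fun s => congrArg χ (Subtype.ext (by
          show ((c _ s : R) : H) = s
          rw [hc]; simp))
        neg_mem' := fun {a} (ha : χi a = χ) => by
          show χi (-a) = χ
          have h0 : χi (a + -a) = χ := MonoidHom.ext fun s => congrArg χ (Subtype.ext (by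
          show ((c _ s : R) : H) = s
          rw [hc]; simp))
          rw [hadd, ha] at h0
          exact h0 }
    have hg : ((Int.gcd i (p ^ (n + 1) : ℕ) : ℕ) : ℤ) ∈ S := by
      rw [Int.gcd_eq_gcd_ab]
      exact add_mem (by rw [mul_comm, ← smul_eq_mul]; exact zsmul_mem (show (i : ℤ) ∈ S from h) _)
        (by rw [mul_comm, ← smul_eq_mul]; exact zsmul_mem (show ((p ^ (n + 1) : ℕ) : ℤ) ∈ S from hper) _)
    rw [Int.gcd_natCast_natCast] at hg
    obtain ⟨j, hj, hjeq⟩ := (Nat.dvd_prime_pow hp).1 (Nat.gcd_dvd_right i (p ^ (n + 1)))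
    have hjn : j ≤ n := by
      by_contra hcon
      have hj' : j = n + 1 := by omega
      have h1 := Nat.le_of_dvd (Nat.pos_of_ne_zero hi0) (Nat.gcd_dvd_left i (p ^ (n + 1)))
      rw [hjeq, hj'] at h1
      omega
    obtain ⟨t, ht⟩ := pow_dvd_pow p hjn
    refine hmove (show ((p ^ n : ℕ) : ℤ) ∈ S from ?_)
    rw [ht, ← hjeq, Nat.cast_mul, mul_comm, ← smul_eq_mul]
    exact zsmul_mem hg _
  intro hsum
  -- project on the eigen space of `χ`
  have hproj : ∀ i : ℕ, i < p ^ (n + 1) →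
      (∑ s : R, ((χ s)⁻¹ : kˣ).val • σ s (ρ (x ^ i) w)) = if i = 0 then (Nat.card R : k) • w else 0 := by
    intro i hi
    split_ifs with h0
    · subst h0
      rw [pow_zero, map_one, Nat.card_eq_fintype_card, ← Finset.card_univ, Nat.cast_smul_eq_nsmul,
        ← Finset.sum_const]
      refine Finset.sum_congr rfl fun s _ => ?_
      rw [Module.End.one_apply, hw, smul_smul, Units.inv_mul, one_smul]
    · have hne : χ⁻¹ * χi i ≠ 1 := fun h => h0 (hdist i hi (inv_mul_eq_one.1 h).symm)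
      have h1 : ∀ s : R, ((χ s)⁻¹ : kˣ).val • σ s (ρ (x ^ i) w) =
          (((χ⁻¹ * χi i) s : kˣ) : k) • ρ (x ^ i) w := by
        intro s
        rw [← zpow_natCast, heig, smul_smul, MonoidHom.mul_apply, MonoidHom.inv_apply, Units.val_mul]
      rw [Finset.sum_congr rfl fun s _ => h1 s, ← Finset.sum_smul,
        CfsgLib.FpfAut.sum_units_eq_zero hne, zero_smul]
  have h2 : ∑ i ∈ Finset.range (p ^ (n + 1)), (∑ s : R, ((χ s)⁻¹ : kˣ).val • σ s (ρ (x ^ i) w)) = 0 := by
    rw [Finset.sum_comm]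
    refine Finset.sum_eq_zero fun s _ => ?_
    rw [← Finset.smul_sum, ← map_sum, ← LinearMap.sum_apply, hsum, LinearMap.zero_apply, map_zero,
      smul_zero]
  rw [Finset.sum_congr rfl fun i hi => hproj i (Finset.mem_range.1 hi), Finset.sum_ite_eq' (Finset.range _) 0,
    if_pos (Finset.mem_range.2 (pow_pos hp.pos _))] at h2
  exact hw0 ((smul_eq_zero.1 h2).resolve_left hRk)

/-- Setting for the drop: some invariant Sylow subgroup of the `p'`-core of `K / O_p(K)` is moved. -/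
theorem exists_moved_sylow {H : Type*} [Group H] [Finite H] {p : ℕ} [Fact p.Prime]
    (hH : IsPSolvable p H) (hO : pCore p H = ⊥) {x : H} (hx : ∃ k : ℕ, x ^ p ^ k = 1) {y : H}
    (hy : y ∈ Subgroup.zpowers x) (hy1 : y ≠ 1) :
    ∃ (q : ℕ) (R : Subgroup H), q.Prime ∧ q ≠ p ∧ IsPGroup q R ∧ R ≤ pPrimeCore p H ∧
      x ∈ Subgroup.normalizer (R : Set H) ∧ ∃ r ∈ R, y⁻¹ * r * y ≠ r := by
  have hp : p.Prime := Fact.out
  by_contra hcon
  set Q := pPrimeCore p H
  have hU : IsPGroup p (Subgroup.zpowers x) := by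
    obtain ⟨k, hk⟩ := hx
    obtain ⟨i, -, hi⟩ := (Nat.dvd_prime_pow hp).1 (orderOf_dvd_of_pow_eq_one hk)
    exact IsPGroup.of_card (n := i) (by rw [Nat.card_zpowers, hi])
  have hUQ : Subgroup.zpowers x ≤ Subgroup.normalizer (Q : Set H) := by
    rw [Subgroup.normalizer_eq_top]; exact le_top
  have htop : (Subgroup.centralizer ({y} : Set H)).subgroupOf Q = ⊤ := by
    refine CfsgLib.Constrained.eq_top_of_forall_sylow_le _ fun q hq => ?_
    haveI := Fact.mk hq
    obtain ⟨S, hS⟩ := CfsgLib.Coprime44.exists_invariant_sylow hU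
      (CfsgLib.Constrained.pPrimeCore_not_dvd (p := p) (G := H)) hUQ q
    refine ⟨S, fun s hs => ?_⟩
    rw [Subgroup.mem_subgroupOf, Subgroup.mem_centralizer_singleton_iff]
    by_contra hne
    rcases eq_or_ne q p with hqp | hqp
    · subst hqp
      have h0 : (S : Subgroup Q) = ⊥ := by
        obtain ⟨i, hi⟩ := IsPGroup.iff_card.1 S.isPGroup'
        rw [← Subgroup.card_eq_one, hi]
        rcases Nat.eq_zero_or_pos i with rfl | hi0
        · rw [pow_zero]
        · exact absurd ((dvd_pow_self q hi0.ne').trans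
            (hi ▸ Subgroup.card_subgroup_dvd_card (S : Subgroup Q)))
            (CfsgLib.Constrained.pPrimeCore_not_dvd (p := q) (G := H))
      rw [h0, Subgroup.mem_bot] at hs
      subst hs
      simp at hne
    refine hcon ⟨q, (S : Subgroup Q).map Q.subtype, hq, hqp, S.isPGroup'.map _,
      Subgroup.map_subtype_le _, hS (Subgroup.mem_zpowers x), s, ⟨s, hs, rfl⟩, fun h => hne ?_⟩
    calc (s : H) * y = y * (y⁻¹ * s * y) := by group
      _ = y * s := by rw [h]
  have hyQ : y ∈ Q := by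
    refine CfsgLib.TISolvable.centralizer_pPrimeCore_le hH hO (Subgroup.mem_centralizer_iff.2 fun q hq => ?_)
    have h := (htop ▸ Subgroup.mem_top (⟨q, hq⟩ : Q) :
      (⟨q, hq⟩ : Q) ∈ (Subgroup.centralizer ({y} : Set H)).subgroupOf Q)
    rw [Subgroup.mem_subgroupOf, Subgroup.mem_centralizer_singleton_iff] at h
    exact h
  obtain ⟨k, hk⟩ := hU ⟨y, hy⟩
  obtain ⟨i, -, hi⟩ := (Nat.dvd_prime_pow hp).1
    (orderOf_dvd_of_pow_eq_one (congrArg Subtype.val hk : y ^ p ^ k = 1))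
  refine hy1 (orderOf_eq_one_iff.1 ?_)
  rcases Nat.eq_zero_or_pos i with rfl | hi0
  · rw [hi, pow_zero]
  · exact absurd ((dvd_pow_self p hi0.ne').trans (hi ▸ Subgroup.orderOf_dvd_natCard Q hyQ))
      (CfsgLib.Constrained.pPrimeCore_not_dvd (p := p) (G := H))

/-- `p`-solvable with abelian Sylow subgroups for the other primes. -/
def AbelianOther (p : ℕ) (K : Type u) [Group K] : Prop :=
  IsPSolvable p K ∧ ∀ (q : ℕ), q.Prime → q ≠ p → ∀ R : Subgroup K, IsPGroup q R →
    ∀ a ∈ R, ∀ b ∈ R, a * b = b * a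

theorem AbelianOther.quotient {p : ℕ} [Fact p.Prime] (K : Type u) [Group K] [Finite K] (N : Subgroup K)
    [N.Normal] (h : AbelianOther p K) : AbelianOther p (K ⧸ N) := by
  refine ⟨CfsgLib.Constrained.IsPSolvable.quotient h.1 N, fun q hq hqp R hR a ha b hb => ?_⟩
  haveI := Fact.mk hq
  obtain ⟨S, hS⟩ := hR.exists_le_sylow
  obtain ⟨T, rfl⟩ := Sylow.mapSurjective_surjective (QuotientGroup.mk'_surjective N) q S
  obtain ⟨a', ha', rfl⟩ := hS ha
  obtain ⟨b', hb', rfl⟩ := hS hb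
  rw [← map_mul, h.2 q hq hqp (T : Subgroup K) T.isPGroup' a' ha' b' hb', map_mul]

theorem AbelianOther.drops {p : ℕ} [Fact p.Prime] (K : Type u) [Group K] [Finite K]
    (h : AbelianOther p K) (hO : pPrimeCore p K = ⊥) : Drops p K := by
  intro x n hxp hxn hxN
  have hp : p.Prime := Fact.out
  set xb : K ⧸ pCore p K := (x : K ⧸ pCore p K) with hxb
  obtain ⟨q, R, hq, hqp, hR, -, hxR, r, hr, hmov⟩ := exists_moved_sylow
    (CfsgLib.Constrained.IsPSolvable.quotient h.1 _) CfsgLib.Constrained.pCore_quotient_pCore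
    (x := xb) (by obtain ⟨k, hk⟩ := hxp; exact ⟨k, by rw [hxb, ← QuotientGroup.mk_pow, hk, QuotientGroup.mk_one]⟩)
    (y := xb ^ p ^ n) (pow_mem (Subgroup.mem_zpowers _) _)
    (by rw [hxb, ← QuotientGroup.mk_pow, Ne, QuotientGroup.eq_one_iff]; exact hxn)
  haveI := Fact.mk hq
  refine exists_mul_pow_ne p K (norm_ne_zero_of_abelian (rep p K) hp n xb R ?_
    ((AbelianOther.quotient K (pCore p K) h).2 q hq hqp R hR) hxR hr ?_ ?_)
  · obtain ⟨i, hi⟩ := IsPGroup.iff_card.1 hR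
    rw [hi, Nat.cast_pow]
    refine pow_ne_zero _ fun h0 => hqp ?_
    rw [CharP.cast_eq_zero_iff (Clo p) p] at h0
    exact ((Nat.prime_dvd_prime_iff_eq hp hq).1 h0).symm
  · intro heq
    set y := xb ^ p ^ n
    obtain ⟨a, ha⟩ := hR ⟨(y⁻¹ * r * y) * r⁻¹, mul_mem (by
      have := (Subgroup.mem_normalizer_iff''.1 (pow_mem hxR (p ^ n)) r).1 hr
      exact this) (inv_mem hr)⟩
    have h1 := eq_one_of_rep_eq_one p K h.1 hO (h := (y⁻¹ * r * y) * r⁻¹) hq hqp
      ⟨a, congrArg Subtype.val ha⟩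
      (by rw [map_mul, heq, ← map_mul, mul_inv_cancel, map_one])
    exact hmov (mul_inv_eq_one.1 h1)
  · rw [hxb, ← QuotientGroup.mk_pow, (QuotientGroup.eq_one_iff _).2 hxN, map_one]

end CfsgLib.PLengthExp
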