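import Mathlib
import Cfsg.Agent.PGroup.Frattini

/-!
A `p`-group with an automorphism of prime order `r ≠ p` that fixes every proper invariant subgroup
(the normal Sylow subgroup of a minimal non-nilpotent group).
-/

set_option autoImplicit false

open scoped commutatorElement

namespace CfsgLib.PLengthExp

universe u

/-- `σ` fixes pointwise every proper invariant subgroup. -/
def FixesProper {P : Type u} [Group P] (σ : MulAut P) : Prop :=
  ∀ Y : Subgroup P, Y ≠ ⊤ → (∀ y ∈ Y, σ y ∈ Y) → ∀ y ∈ Y, σ y = y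

variable {P : Type u} [Group P] [Finite P] {p r : ℕ} [hp : Fact p.Prime]

/-- Elements moved by a fixed element of coprime order are fixed. -/
theorem eq_of_moved_by_fixed (hP : IsPGroup p P) (hr : r.Prime) (hrp : r ≠ p) {σ : MulAut P}
    (hσ : σ ^ r = 1) {x c : P} (hx : σ x = c * x) (hc : σ c = c) : σ x = x := by
  have h : ∀ i : ℕ, (σ ^ i) x = c ^ i * x := by
    intro i
    induction i with
    | zero => simp
    | succ i ih => rw [pow_succ', MulAut.mul_apply, ih, map_mul, map_pow, hc, hx, ← mul_assoc, ← pow_succ]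
  have h1 := h r
  rw [hσ, MulAut.one_apply, right_eq_mul] at h1
  obtain ⟨a, ha⟩ := hP c
  have : orderOf c = 1 := Nat.eq_one_of_dvd_coprimes
    (Nat.Coprime.pow_right a ((Nat.coprime_primes hr hp.out).2 hrp))
    (orderOf_dvd_of_pow_eq_one h1) (orderOf_dvd_of_pow_eq_one ha)
  rw [hx, orderOf_eq_one_iff.1 this, one_mul]

/-- Structure in the non-abelian case. -/
theorem fixesProper_structure (hP : IsPGroup p P) (hr : r.Prime) (hrp : r ≠ p) {σ : MulAut P}
    (hσ : σ ^ r = 1) (hσ1 : σ ≠ 1) (hfix : FixesProper σ) (hnab : Subgroup.center P ≠ ⊤) :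
    Subgroup.center P = frattini P ∧ (∀ z ∈ Subgroup.center P, σ z = z) ∧
      (∀ y, σ y = y → y ∈ Subgroup.center P) ∧
      ∀ v, v ∉ Subgroup.center P → ∀ a b : P, ⁅a, b⁆ ∈ Subgroup.closure (Set.range fun y : P => ⁅v, y⁆) := by
  classical
  haveI : Nontrivial P := by
    by_contra h
    rw [not_nontrivial_iff_subsingleton] at h
    exact hnab (eq_top_iff.2 fun x _ => Subgroup.mem_center_iff.2 fun y => Subsingleton.elim _ _)
  have hinvchar : ∀ Y : Subgroup P, Y.Characteristic → ∀ y ∈ Y, σ y ∈ Y := fun Y hY y hy =>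
    (Subgroup.characteristic_iff_map_eq.1 hY σ).le ⟨y, hy, rfl⟩
  have hZfix : ∀ z ∈ Subgroup.center P, σ z = z := hfix _ hnab (hinvchar _ inferInstance)
  have hΦfix : ∀ z ∈ frattini P, σ z = z :=
    hfix _ CfsgLib.PGroup.frattini_ne_top (hinvchar _ inferInstance)
  have hgen : Subgroup.closure (Set.range fun x => σ x * x⁻¹) = ⊤ := by
    by_contra hne
    refine hσ1 (MulEquiv.ext fun x => eq_of_moved_by_fixed hP hr hrp hσ (c := σ x * x⁻¹)
      (by rw [inv_mul_cancel_right]) (hfix _ hne ?_ _ (Subgroup.subset_closure ⟨x, rfl⟩)))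
    intro y hy
    have : (Subgroup.closure (Set.range fun x => σ x * x⁻¹)).map σ.toMonoidHom ≤
        Subgroup.closure (Set.range fun x => σ x * x⁻¹) := by
      rw [MonoidHom.map_closure, Subgroup.closure_le]
      rintro _ ⟨_, ⟨x, rfl⟩, rfl⟩
      exact Subgroup.subset_closure ⟨σ x, by simp⟩
    exact this ⟨y, hy, rfl⟩
  have hFZ : ∀ y, σ y = y → y ∈ Subgroup.center P := by
    intro s hs
    refine Subgroup.mem_center_iff.2 fun t => ?_
    suffices h : Subgroup.closure (Set.range fun x => σ x * x⁻¹) ≤ Subgroup.centralizer {s} by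
      exact Subgroup.mem_centralizer_singleton_iff.1 (h (hgen ▸ Subgroup.mem_top t))
    rw [Subgroup.closure_le]
    rintro _ ⟨t, rfl⟩
    rw [SetLike.mem_coe, Subgroup.mem_centralizer_singleton_iff]
    have h1 : σ ⁅s, t⁻¹⁆ = ⁅s, t⁻¹⁆ := hΦfix _ (CfsgLib.PGroup.commutatorElement_mem_frattini hP _ _)
    rw [map_commutatorElement, hs, map_inv] at h1
    have h4 : ∀ x : P, x⁻¹ * s⁻¹ * x = s⁻¹ * ⁅s, x⁻¹⁆ := fun x => by rw [commutatorElement_def]; group
    have h3 : (σ t)⁻¹ * s⁻¹ * σ t = t⁻¹ * s⁻¹ * t := by rw [h4, h4, h1]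
    calc σ t * t⁻¹ * s = σ t * (t⁻¹ * s⁻¹ * t)⁻¹ * t⁻¹ := by group
      _ = σ t * ((σ t)⁻¹ * s⁻¹ * σ t)⁻¹ * t⁻¹ := by rw [h3]
      _ = _ := by group
  have hΦZ : frattini P ≤ Subgroup.center P := fun z hz => hFZ z (hΦfix z hz)
  have hZΦ : Subgroup.center P ≤ frattini P := by
    intro z hz
    letI : CommGroup (P ⧸ frattini P) :=
      { (inferInstance : Group (P ⧸ frattini P)) with
        mul_comm := fun a b => by
          induction a using QuotientGroup.induction_on with
          | _ a =>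
            induction b using QuotientGroup.induction_on with
            | _ b =>
              rw [← QuotientGroup.mk'_apply (frattini P) a, ← QuotientGroup.mk'_apply (frattini P) b,
                ← commutatorElement_eq_one_iff_mul_comm, ← map_commutatorElement, QuotientGroup.mk'_apply,
                QuotientGroup.eq_one_iff]
              exact CfsgLib.PGroup.commutatorElement_mem_frattini hP a b }
    let f : P →* P ⧸ frattini P := QuotientGroup.mk' (frattini P)
    let N : P →* P ⧸ frattini P :=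
      { toFun := fun x => ∏ i ∈ Finset.range r, f ((σ ^ i) x)
        map_one' := by simp
        map_mul' := fun a b => by simp only [map_mul, Finset.prod_mul_distrib] }
    have hN : N = 1 := by
      rw [← MonoidHom.ker_eq_top_iff, ← top_le_iff, ← hgen, Subgroup.closure_le]
      rintro _ ⟨x, rfl⟩
      rw [SetLike.mem_coe, MonoidHom.mem_ker, map_mul, map_inv, mul_inv_eq_one]
      show ∏ i ∈ Finset.range r, f ((σ ^ i) (σ x)) = ∏ i ∈ Finset.range r, f ((σ ^ i) x)
      have e : ∀ i, (σ ^ i) (σ x) = (σ ^ (i + 1)) x := fun i => by rw [pow_succ, MulAut.mul_apply]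
      simp only [e]
      have h2 := Finset.prod_range_succ' (fun i => f ((σ ^ i) x)) r
      rw [Finset.prod_range_succ, hσ, pow_zero] at h2
      exact (mul_right_cancel h2).symm
    have h1 : f z ^ r = 1 := by
      have h2 : ∀ i, (σ ^ i) z = z := fun i => by
        induction i with
        | zero => rfl
        | succ i ih => rw [pow_succ, MulAut.mul_apply, hZfix z hz, ih]
      have h3 : N z = 1 := DFunLike.congr_fun hN z
      simpa [N, h2] using h3
    rw [← QuotientGroup.eq_one_iff]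
    obtain ⟨a, ha⟩ := hP z
    refine orderOf_eq_one_iff.1 (Nat.eq_one_of_dvd_coprimes
      (Nat.Coprime.pow_right a ((Nat.coprime_primes hr hp.out).2 hrp))
      (orderOf_dvd_of_pow_eq_one h1) (orderOf_dvd_of_pow_eq_one ?_))
    rw [← QuotientGroup.mk_pow, ha, QuotientGroup.mk_one]
  refine ⟨le_antisymm hZΦ hΦZ, hZfix, hFZ, fun v hv a b => ?_⟩
  set A := Subgroup.closure (Set.range fun y : P => ⁅v, y⁆)
  have hcen : ∀ a b x : P, x * ⁅a, b⁆ = ⁅a, b⁆ * x := fun a b x =>
    Subgroup.mem_center_iff.1 (hΦZ (CfsgLib.PGroup.commutatorElement_mem_frattini hP a b)) x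
  have hmul : ∀ y y' x : P, ⁅y * y', x⁆ = ⁅y', x⁆ * ⁅y, x⁆ := fun y y' x => by
    calc ⁅y * y', x⁆ = y * ⁅y', x⁆ * y⁻¹ * ⁅y, x⁆ := by simp only [commutatorElement_def]; group
      _ = _ := by rw [hcen y' x y, mul_inv_cancel_right]
  let K : Subgroup P :=
    { carrier := {y | ∀ x, ⁅y, x⁆ ∈ A}
      one_mem' := fun x => by rw [commutatorElement_one_left]; exact one_mem A
      mul_mem' := fun {y y'} hy hy' x => by rw [hmul]; exact mul_mem (hy' x) (hy x)
      inv_mem' := fun {y} hy x => by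
        have h := hmul y⁻¹ y x
        rw [inv_mul_cancel, commutatorElement_one_left] at h
        rw [eq_inv_of_mul_eq_one_right h.symm]
        exact inv_mem (hy x) }
  have hK : K = ⊤ := by
    by_contra hne
    refine hv (hFZ v (hfix K hne (fun y hy x => ?_) v fun x => Subgroup.subset_closure ⟨x, rfl⟩))
    rw [show ⁅σ y, x⁆ = σ ⁅y, σ.symm x⁆ by rw [map_commutatorElement, MulEquiv.apply_symm_apply],
      hΦfix _ (CfsgLib.PGroup.commutatorElement_mem_frattini hP _ _)]
    exact hy _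
  exact (hK ▸ Subgroup.mem_top a : a ∈ K) b

/-- Small rank: for `p = 3` impossible, for `p = 2` the commutator is a square in a large subgroup. -/
theorem fixesProper_rank_two (hP : IsPGroup p P) (hr : r.Prime) (hrp : r ≠ p) {σ : MulAut P}
    (hσ : σ ^ r = 1) (hσ1 : σ ≠ 1) (hfix : FixesProper σ) (hnab : Subgroup.center P ≠ ⊤) (hp23 : p ≤ 3)
    {v x : P} (hv : v ∉ Subgroup.center P)
    (hgen : Subgroup.center P ⊔ Subgroup.zpowers v ⊔ Subgroup.zpowers x = ⊤) :
    ∃ f ∈ Subgroup.center P, ⁅v, x⁆ = (v * f) ^ p := by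
  classical
  obtain ⟨hZΦ, hZfix, hFZ, -⟩ := fixesProper_structure hP hr hrp hσ hσ1 hfix hnab
  set Z := Subgroup.center P with hZ
  have hcomm : ∀ a b : P, ⁅a, b⁆ ∈ Z := fun a b => hZΦ ▸ CfsgLib.PGroup.commutatorElement_mem_frattini hP a b
  have hpow : ∀ a : P, a ^ p ∈ Z := fun a => hZΦ ▸ CfsgLib.PGroup.pow_prime_mem_frattini hP a
  letI : CommGroup (P ⧸ Z) :=
    { (inferInstance : Group (P ⧸ Z)) with
      mul_comm := fun a b => by
        induction a using QuotientGroup.induction_on with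
        | _ a =>
          induction b using QuotientGroup.induction_on with
          | _ b =>
            rw [← QuotientGroup.mk'_apply Z a, ← QuotientGroup.mk'_apply Z b,
              ← commutatorElement_eq_one_iff_mul_comm, ← map_commutatorElement, QuotientGroup.mk'_apply,
              QuotientGroup.eq_one_iff]
            exact hcomm a b }
  have hexp : ∀ g : P ⧸ Z, g ^ p = 1 := fun g => by
    induction g using QuotientGroup.induction_on with
    | _ a => rw [← QuotientGroup.mk_pow, QuotientGroup.eq_one_iff]; exact hpow a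
  have hrep : ∀ g : P ⧸ Z, ∃ i j : Fin p, g = (v : P ⧸ Z) ^ (i : ℕ) * (x : P ⧸ Z) ^ (j : ℕ) := by
    intro g
    have hg : g ∈ Subgroup.closure ({(v : P ⧸ Z), (x : P ⧸ Z)} : Set (P ⧸ Z)) := by
      have h1 : (⊤ : Subgroup (P ⧸ Z)) ≤ Subgroup.closure ({(v : P ⧸ Z), (x : P ⧸ Z)} : Set (P ⧸ Z)) := by
        rw [← Subgroup.map_top_of_surjective _ (QuotientGroup.mk'_surjective Z), ← hgen, Subgroup.map_sup,
          Subgroup.map_sup, QuotientGroup.map_mk'_self, bot_sup_eq, MonoidHom.map_zpowers,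
          MonoidHom.map_zpowers, sup_le_iff, Subgroup.zpowers_le, Subgroup.zpowers_le]
        exact ⟨Subgroup.subset_closure (Or.inl rfl), Subgroup.subset_closure (Or.inr rfl)⟩
      exact h1 (Subgroup.mem_top g)
    obtain ⟨m, n, hmn⟩ := Subgroup.mem_closure_pair.1 hg
    have hred : ∀ (g : P ⧸ Z) (m : ℤ), ∃ i : Fin p, g ^ m = g ^ (i : ℕ) := fun g m => by
      have hp0 : (p : ℤ) ≠ 0 := Nat.cast_ne_zero.2 hp.out.ne_zero
      refine ⟨⟨(m % p).toNat, ?_⟩, ?_⟩
      · have := Int.emod_lt_of_pos m (by have := hp.out.pos; omega : (0 : ℤ) < p)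
        have := Int.emod_nonneg m hp0
        omega
      · rw [← zpow_natCast, Int.toNat_of_nonneg (Int.emod_nonneg m hp0)]
        conv_lhs => rw [← Int.emod_add_mul_ediv m p, zpow_add, zpow_mul, zpow_natCast, hexp, one_zpow, mul_one]
    obtain ⟨i, hi⟩ := hred (v : P ⧸ Z) m
    obtain ⟨j, hj⟩ := hred (x : P ⧸ Z) n
    exact ⟨i, j, by rw [← hmn, hi, hj]⟩
  have hinvZ : Z.map σ.toMonoidHom = Z := Subgroup.characteristic_iff_map_eq.1 inferInstance σ
  let τ : MulAut (P ⧸ Z) := QuotientGroup.congr Z Z σ hinvZ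
  have hτfix : ∀ g, τ g = g → g = 1 := fun g => by
    induction g using QuotientGroup.induction_on with
    | _ a =>
      intro h
      have h1 : a⁻¹ * σ a ∈ Z := QuotientGroup.eq.1 h.symm
      rw [QuotientGroup.eq_one_iff]
      refine hFZ a (eq_of_moved_by_fixed hP hr hrp hσ (c := σ a * a⁻¹) (by rw [inv_mul_cancel_right])
        (hZfix _ ?_))
      have h2 := (inferInstance : Z.Normal).conj_mem _ h1 a
      rwa [mul_inv_cancel_left] at h2
  rcases Nat.lt_or_ge p 3 with hlt | hge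
  · -- `p = 2`
    obtain rfl : p = 2 := by have := hp.out.two_le; omega
    have hvne : (v : P ⧸ Z) ≠ 1 := fun h => hv ((QuotientGroup.eq_one_iff v).1 h)
    set b := σ v with hb
    have hbne : (b : P ⧸ Z) ≠ 1 ∧ (b : P ⧸ Z) ≠ (v : P ⧸ Z) := by
      refine ⟨fun h => hvne ?_, fun h => hvne (hτfix _ h)⟩
      refine τ.injective ?_
      rw [map_one]
      exact h
    have hcases : ∀ g : P ⧸ Z, g = 1 ∨ g = v ∨ g = x ∨ g = (v : P ⧸ Z) * (x : P ⧸ Z) := fun g => by
      obtain ⟨i, j, rfl⟩ := hrep g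
      fin_cases i <;> fin_cases j <;> simp
    have hsq : ∀ g : P ⧸ Z, g * g = 1 := fun g => by rw [← sq]; exact hexp g
    have hbx : (b : P ⧸ Z) = x ∨ (b : P ⧸ Z) = (v : P ⧸ Z) * (x : P ⧸ Z) := by
      rcases hcases (b : P ⧸ Z) with h | h | h
      · exact absurd h hbne.1
      · exact absurd h hbne.2
      · exact h
    have hσb : (σ b : P ⧸ Z) = (v : P ⧸ Z) * (b : P ⧸ Z) := by
      have h1 : τ (b : P ⧸ Z) = (σ b : P ⧸ Z) := rfl
      have hne1 : (σ b : P ⧸ Z) ≠ 1 := fun h => hbne.1 (τ.injective (by rw [h1, h, map_one]))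
      have hneb : (σ b : P ⧸ Z) ≠ (b : P ⧸ Z) := fun h => hbne.1 (hτfix _ h)
      have hnev : (σ b : P ⧸ Z) ≠ (v : P ⧸ Z) := fun h => by
        have h2 : (v : P ⧸ Z) * (b : P ⧸ Z) = 1 := hτfix _ (by
          rw [map_mul, h1, h]
          show (b : P ⧸ Z) * v = _
          exact mul_comm _ _)
        exact hbne.2 (mul_left_cancel (a := (v : P ⧸ Z)) (h2.trans (hsq _).symm))
      rcases hbx with hb' | hb' <;> rcases hcases (σ b : P ⧸ Z) with h | h | h | h
      all_goals first
        | exact absurd h hne1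
        | exact absurd h hnev
        | exact absurd (h.trans hb'.symm) hneb
        | (rw [h, hb']; done)
        | (rw [h, hb', ← mul_assoc, hsq, one_mul])
    obtain ⟨f, hf, hfeq⟩ : ∃ f ∈ Z, σ b = v * b * f := ⟨(v * b)⁻¹ * σ b,
      QuotientGroup.eq.1 hσb.symm, by rw [mul_inv_cancel_left]⟩
    have hcz : ∀ z ∈ Z, ∀ t : P, t * z = z * t := fun z hz t => Subgroup.mem_center_iff.1 hz t
    have hv2 : σ (v ^ 2) = v ^ 2 := hZfix _ (hpow v)
    have hb2 : b ^ 2 = v ^ 2 := by rw [hb, ← map_pow, hv2]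
    have hc2 : (σ b) ^ 2 = v ^ 2 := by rw [← map_pow, hb2, hv2]
    have h5 : (v * b * f) ^ 2 = v ^ 2 * ⁅v⁻¹, b⁆ * b ^ 2 * f ^ 2 := by
      have e1 : (v * b * f) ^ 2 = (v * b) ^ 2 * f ^ 2 :=
        (show Commute (v * b) f from hcz f hf _).mul_pow 2
      rw [e1]
      congr 1
      rw [sq, sq, sq, commutatorElement_def]; group
    rw [hfeq, h5, hb2] at hc2
    have h6 : ⁅v⁻¹, b⁆ * v ^ 2 * f ^ 2 = 1 :=
      mul_left_cancel (a := v ^ 2) (by rw [mul_one, ← mul_assoc, ← mul_assoc]; exact hc2)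
    have hinvc : ∀ w : P, ⁅v⁻¹, w⁆ = ⁅v, w⁆⁻¹ := fun w => by
      refine eq_inv_of_mul_eq_one_left ?_
      calc ⁅v⁻¹, w⁆ * ⁅v, w⁆ = v⁻¹ * ⁅v, w⁆ * v⁻¹⁻¹ * ⁅v⁻¹, w⁆ := by
            rw [hcz _ (hcomm v w) v⁻¹, mul_inv_cancel_right, hcz _ (hcomm v w) ⁅v⁻¹, w⁆]
        _ = ⁅v⁻¹ * v, w⁆ := by simp only [commutatorElement_def]; group
        _ = 1 := by rw [inv_mul_cancel, commutatorElement_one_left]
    have hbxc : ⁅v, b⁆ = ⁅v, x⁆ := by
      have key : ∀ (g z : P), z ∈ Z → ⁅v, g * z⁆ = ⁅v, g⁆ := fun g z hz => by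
        have h7 : z * v⁻¹ * z⁻¹ = v⁻¹ := by rw [← hcz z hz, mul_inv_cancel_right]
        calc ⁅v, g * z⁆ = v * g * (z * v⁻¹ * z⁻¹) * g⁻¹ := by rw [commutatorElement_def]; group
          _ = ⁅v, g⁆ := by rw [h7, commutatorElement_def]
      rcases hbx with hb' | hb'
      · have h8 := key x (x⁻¹ * b) (QuotientGroup.eq.1 hb'.symm)
        rwa [mul_inv_cancel_left] at h8
      · have h8 := key (v * x) ((v * x)⁻¹ * b) (QuotientGroup.eq.1 hb'.symm)
        rw [mul_inv_cancel_left] at h8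
        rw [h8]
        calc ⁅v, v * x⁆ = v * ⁅v, x⁆ * v⁻¹ := by simp only [commutatorElement_def]; group
          _ = _ := by rw [hcz _ (hcomm v x) v, mul_inv_cancel_right]
    refine ⟨f, hf, ?_⟩
    rw [(show Commute v f from hcz f hf v).mul_pow, ← hbxc]
    rw [hinvc, mul_assoc, inv_mul_eq_one] at h6
    exact h6
  · -- `p = 3`
    obtain rfl : p = 3 := by omega
    exfalso
    haveI := Fact.mk hr
    letI : Fintype (P ⧸ Z) := Fintype.ofFinite _
    let π : Equiv.Perm (P ⧸ Z) := MulAut.toPerm _ τ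
    have hτr : τ ^ r = 1 := by
      have h : ∀ (i : ℕ) (a : P), (τ ^ i) (a : P ⧸ Z) = ((σ ^ i) a : P ⧸ Z) := fun i => by
        induction i with
        | zero => intro a; rfl
        | succ i ih =>
          intro a
          rw [pow_succ, pow_succ, MulAut.mul_apply, MulAut.mul_apply, ← ih]
          rfl
      refine MulEquiv.ext fun g => ?_
      induction g using QuotientGroup.induction_on with
      | _ a => rw [h, hσ]; rfl
    have hmod := Equiv.Perm.card_compl_support_modEq (p := r) (n := 1) (σ := π)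
      (by rw [pow_one, ← map_pow, hτr, map_one])
    have hsupp : π.supportᶜ = {1} := by
      ext g
      rw [Finset.mem_compl, Equiv.Perm.notMem_support, Finset.mem_singleton]
      exact ⟨hτfix g, fun h => by rw [h]; exact map_one τ⟩
    rw [hsupp, Finset.card_singleton, ← Nat.card_eq_fintype_card] at hmod
    have hcard : Nat.card (P ⧸ Z) ≤ 9 := by
      have h := Nat.card_le_card_of_surjective
        (fun ij : Fin 3 × Fin 3 => (v : P ⧸ Z) ^ (ij.1 : ℕ) * (x : P ⧸ Z) ^ (ij.2 : ℕ))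
        (fun g => by obtain ⟨i, j, h⟩ := hrep g; exact ⟨(i, j), h.symm⟩)
      simpa using h
    have hr2 : r = 2 := by
      obtain ⟨k, hk⟩ := IsPGroup.iff_card.1 (hP.to_quotient Z)
      rw [hk] at hmod hcard
      have hk2 : k ≤ 2 := by
        by_contra hcon
        have := Nat.pow_le_pow_right (show 0 < 3 by norm_num) (show 3 ≤ k by omega)
        omega
      have hk0 : k ≠ 0 := fun h0 => hnab (Subgroup.index_eq_one.1 (by
        rw [Subgroup.index_eq_card, hk, h0, pow_zero]))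
      have hdvd : r ∣ 3 ^ k - 1 := (Nat.modEq_iff_dvd' (Nat.one_le_pow _ _ (by norm_num))).1 hmod
      have hd8 : r ∣ 2 ^ 3 := by
        rcases (show k = 1 ∨ k = 2 by omega) with rfl | rfl
        · exact hdvd.trans (by norm_num)
        · exact hdvd
      exact (Nat.prime_dvd_prime_iff_eq hr Nat.prime_two).1 (hr.dvd_of_dvd_pow hd8)
    subst hr2
    have hinv : ∀ a : P ⧸ Z, τ a = a⁻¹ := fun a => by
      refine eq_inv_of_mul_eq_one_left (hτfix _ ?_)
      rw [map_mul, ← MulAut.mul_apply, ← sq, hτr, MulAut.one_apply, mul_comm]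
    obtain ⟨g, hg⟩ : ∃ g, g ∉ Z := by
      by_contra h
      push Not at h
      exact hnab ((Subgroup.eq_top_iff' _).2 h)
    let Y : Subgroup P := (Subgroup.zpowers (g : P ⧸ Z)).comap (QuotientGroup.mk' Z)
    have hY : Y = ⊤ := by
      by_contra hne
      refine hg (hFZ g (hfix Y hne (fun y hy => ?_) g (Subgroup.mem_zpowers _)))
      have h1 : ((σ y : P) : P ⧸ Z) = (y : P ⧸ Z)⁻¹ := hinv (y : P ⧸ Z)
      show ((σ y : P) : P ⧸ Z) ∈ Subgroup.zpowers (g : P ⧸ Z)
      rw [h1]
      exact inv_mem hy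
    refine hg (Subgroup.mem_center_iff.2 fun t => ?_)
    obtain ⟨k, hk⟩ : (t : P ⧸ Z) ∈ Subgroup.zpowers (g : P ⧸ Z) := (hY ▸ Subgroup.mem_top t : t ∈ Y)
    have h2 : (g ^ k)⁻¹ * t ∈ Z := by
      rw [← QuotientGroup.eq, QuotientGroup.mk_zpow]
      exact hk
    calc t * g = g ^ k * (((g ^ k)⁻¹ * t) * g) := by group
      _ = g ^ k * (g * ((g ^ k)⁻¹ * t)) := by rw [Subgroup.mem_center_iff.1 h2 g]
      _ = g * t := by group

end CfsgLib.PLengthExp
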