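import Mathlib
import Cfsg.Agent.HallHigmanB.Linear
import Cfsg.Agent.PLengthExp.Abelian

/-!
Theorem B of Hall and Higman on `O_p(K) / Φ(O_p(K))`: outside the exceptional cases the exponent drops.
-/

set_option autoImplicit false

namespace CfsgLib.PLengthExp

universe u

open Cfsg Polynomial

theorem sub_one_pow_eq_sum (k : Type*) [Field k] {R : Type*} [Ring R] [Algebra k R] {p : ℕ} [Fact p.Prime]
    [CharP k p] (T : R) (m : ℕ) :
    (T - 1) ^ (p ^ m - 1) = ∑ i ∈ Finset.range (p ^ m), T ^ i := by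
  have h : ((X : k[X]) - 1) ^ (p ^ m - 1) = ∑ i ∈ Finset.range (p ^ m), X ^ i := by
    refine mul_right_cancel₀ (show ((X : k[X]) - 1) ≠ 0 from
      sub_ne_zero.2 (by simpa using X_ne_C (1 : k))) ?_
    rw [geom_sum_mul, ← pow_succ,
      Nat.sub_add_cancel (Nat.one_le_pow _ _ (Fact.out : p.Prime).pos), sub_pow_char_pow, one_pow]
  have h' := congrArg (aeval T) h
  simpa using h'

/-- The representation of `K / O_p(K)` is faithful. -/
theorem rep_injective (p : ℕ) [Fact p.Prime] (K : Type u) [Group K] [Finite K]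
    (hG : IsPSolvable p K) (hO : pPrimeCore p K = ⊥) : Function.Injective (rep p K) := by
  rw [← MonoidHom.ker_eq_bot_iff]
  have hker : IsPGroup p (rep p K).ker := by
    refine IsPGroup.of_card (n := (Nat.card (rep p K).ker).primeFactorsList.length) ?_
    refine Nat.eq_prime_pow_of_unique_prime_dvd (Nat.card_pos (α := (rep p K).ker)).ne' (fun {d} hd hdd => ?_)
    by_contra hdp
    haveI := Fact.mk hd
    obtain ⟨h, hh⟩ := exists_prime_orderOf_dvd_card' d hdd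
    have h1 := eq_one_of_rep_eq_one p K hG hO (h := (h : K ⧸ pCore p K)) hd hdp
      ⟨1, by rw [pow_one, ← hh, ← Subgroup.orderOf_coe h, pow_orderOf_eq_one]⟩ (MonoidHom.mem_ker.1 h.2)
    rw [← Subgroup.orderOf_coe h, h1, orderOf_one] at hh
    exact hd.one_lt.ne hh
  exact le_bot_iff.1 (CfsgLib.Constrained.pCore_quotient_pCore (p := p) (G := K) ▸
    CfsgLib.Constrained.le_pCore inferInstance hker)

/-- The order of the image of `x`. -/
theorem orderOf_mk_eq {p : ℕ} [Fact p.Prime] {K : Type u} [Group K] (N : Subgroup K) [N.Normal] {x : K}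
    {n : ℕ} (h1 : x ^ p ^ n ∉ N) (h2 : x ^ p ^ (n + 1) ∈ N) : orderOf (x : K ⧸ N) = p ^ (n + 1) :=
  orderOf_eq_prime_pow (by rwa [← QuotientGroup.mk_pow, QuotientGroup.eq_one_iff])
    (by rwa [← QuotientGroup.mk_pow, QuotientGroup.eq_one_iff])

/-- Theorem B: either the exponent drops at `x` or we are in an exceptional case. -/
theorem drops_or_exception {p : ℕ} [Fact p.Prime] {K : Type u} [Group K] [Finite K]
    (hG : IsPSolvable p K) (hO : pPrimeCore p K = ⊥) {x : K} {n : ℕ}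
    (hxn : x ^ p ^ n ∉ pCore p K) (hxN : x ^ p ^ (n + 1) ∈ pCore p K) :
    (∃ v ∈ pCore p K, (v * x) ^ p ^ (n + 1) ≠ x ^ p ^ (n + 1)) ∨
      ∃ n₀ q m : ℕ, 1 ≤ n₀ ∧ n₀ ≤ n + 1 ∧ q.Prime ∧ 1 ≤ m ∧ p ^ n₀ - 1 = q ^ m ∧
        ∀ Q : Sylow q (K ⧸ pCore p K), ¬ IsMulCommutative Q := by
  by_cases h : (rep p K (x : K ⧸ pCore p K) - 1) ^ (p ^ (n + 1) - 1) = 0
  · rcases CfsgLib.HallHigmanB.theorem_b (rep p K) (rep_injective p K hG hO)
      (CfsgLib.Constrained.IsPSolvable.quotient hG _) CfsgLib.Constrained.pCore_quotient_pCore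
      (x : K ⧸ pCore p K) (n + 1) (by omega) (orderOf_mk_eq _ hxn hxN) _ h with h1 | ⟨n₀, q, m, h1, h2, h3, h4, h5, h6, -⟩
    · have := Nat.one_le_pow (n + 1) p (Fact.out : p.Prime).pos
      omega
    · exact Or.inr ⟨n₀, q, m, h1, h2, h3, h4, h5, h6⟩
  · left
    refine exists_mul_pow_ne p K fun hs => h ?_
    refine (sub_one_pow_eq_sum (Clo p) (p := p) (rep p K (x : K ⧸ pCore p K)) (n + 1)).trans ?_
    simpa only [map_pow] using hs

/-- An exception for odd `p` makes `p` a Fermat prime and needs a non-abelian Sylow 2-subgroup. -/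
theorem exception_two {p n₀ q m : ℕ} (hp : p.Prime) (hp2 : p ≠ 2) (hn₀ : 1 ≤ n₀) (hq : q.Prime) (hm : 1 ≤ m)
    (h : p ^ n₀ - 1 = q ^ m) : q = 2 ∧ ∃ k : ℕ, p = 2 ^ k + 1 := by
  have hodd : Odd (p ^ n₀) := (hp.odd_of_ne_two hp2).pow
  have hq2 : q = 2 := by
    by_contra hne
    have h1 : Odd (q ^ m) := (hq.odd_of_ne_two hne).pow
    rw [← h] at h1
    obtain ⟨a, ha⟩ := hodd
    obtain ⟨b, hb⟩ := h1
    omega
  subst hq2
  refine ⟨rfl, ?_⟩
  rcases Nat.lt_or_ge n₀ 2 with hn | hn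
  · rw [show n₀ = 1 by omega, pow_one] at h
    exact ⟨m, by have := hp.pos; omega⟩
  · obtain ⟨t, ht⟩ : p - 1 ∣ p ^ n₀ - 1 := by
      exact Nat.sub_one_dvd_pow_sub_one p n₀
    have hdvd : p - 1 ∣ 2 ^ m := h ▸ ⟨t, ht⟩
    obtain ⟨j, -, hj⟩ := (Nat.dvd_prime_pow Nat.prime_two).1 hdvd
    exact ⟨j, by have := hp.pos; omega⟩

/-- `p`-solvable, with `p` odd, and either `p` not a Fermat prime or abelian Sylow 2-subgroups. -/
def NonExceptional (p : ℕ) (K : Type u) [Group K] : Prop :=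
  IsPSolvable p K ∧ p ≠ 2 ∧
    ((¬ ∃ k : ℕ, p = 2 ^ k + 1) ∨ ∀ R : Subgroup K, IsPGroup 2 R → ∀ a ∈ R, ∀ b ∈ R, a * b = b * a)

theorem NonExceptional.quotient {p : ℕ} [Fact p.Prime] (K : Type u) [Group K] [Finite K] (N : Subgroup K)
    [N.Normal] (h : NonExceptional p K) : NonExceptional p (K ⧸ N) := by
  refine ⟨CfsgLib.Constrained.IsPSolvable.quotient h.1 N, h.2.1, h.2.2.imp id fun h2 R hR a ha b hb => ?_⟩
  obtain ⟨S, hS⟩ := hR.exists_le_sylow
  obtain ⟨T, rfl⟩ := Sylow.mapSurjective_surjective (QuotientGroup.mk'_surjective N) 2 S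
  obtain ⟨a', ha', rfl⟩ := hS ha
  obtain ⟨b', hb', rfl⟩ := hS hb
  rw [← map_mul, h2 (T : Subgroup K) T.isPGroup' a' ha' b' hb', map_mul]

theorem NonExceptional.drops {p : ℕ} [Fact p.Prime] (K : Type u) [Group K] [Finite K]
    (h : NonExceptional p K) (hO : pPrimeCore p K = ⊥) : Drops p K := by
  intro x n _ hxn hxN
  refine (drops_or_exception h.1 hO hxn hxN).resolve_right ?_
  rintro ⟨n₀, q, m, hn₀, -, hq, hm, heq, hQ⟩
  obtain ⟨rfl, hk⟩ := exception_two Fact.out h.2.1 hn₀ hq hm heq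
  rcases h.2.2 with hne | hab
  · exact hne hk
  · obtain ⟨Q⟩ : Nonempty (Sylow 2 (K ⧸ pCore p K)) := inferInstance
    exact hQ Q ⟨⟨fun a b => Subtype.ext
      (((NonExceptional.quotient K (pCore p K) ⟨h.1, h.2.1, Or.inr hab⟩).2.2.resolve_left (fun hne => hne hk))
        (Q : Subgroup (K ⧸ pCore p K)) Q.isPGroup' a a.2 b b.2)⟩⟩

end CfsgLib.PLengthExp
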