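import Mathlib
import Cfsg.Agent.PLengthExp.SchmidtType
import Cfsg.Agent.PLengthExp.TheoremB
import Cfsg.Agent.Coprime.Generation
import Cfsg.Agent.TISolvable.Minimal

/-!
A `p`-solvable group whose Sylow `p`-subgroup is the normal Sylow subgroup of a minimal non-nilpotent group
has `p`-length at most one: the module-theoretic core and the reduction.
-/

set_option autoImplicit false

open scoped commutatorElement IsMulCommutative

namespace CfsgLib.PLengthExp

universe u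

open Cfsg

/-- The core, in a group with self-centralizing elementary abelian `O_p`. -/
theorem schmidt_core {p : ℕ} [hp : Fact p.Prime] {L : Type u} [Group L] [Finite L]
    (hsol : IsPSolvable p L) (V : Subgroup L) [V.Normal] (hV : IsPGroup p V)
    (hexp : ∀ w ∈ V, w ^ p = 1) (hab : ∀ a ∈ V, ∀ b ∈ V, a * b = b * a)
    (hC : Subgroup.centralizer (V : Set L) ≤ V) (hpc : pCore p L = V)
    (P : Subgroup L) (hP : IsPGroup p P) (hVP : V ≤ P) (Z : Subgroup L) (hZV : Z ≤ V)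
    (hZc : ∀ z ∈ Z, ∀ y ∈ P, y * z = z * y) (hcm : ∀ a ∈ P, ∀ b ∈ P, ⁅a, b⁆ ∈ Z) (hpow : ∀ a ∈ P, a ^ p ∈ Z)
    (hfull : ∀ v ∈ P, v ∉ Z → ∀ a ∈ P, ∀ b ∈ P, ⁅a, b⁆ ∈ Subgroup.closure {w | ∃ y ∈ P, ⁅v, y⁆ = w})
    (hne : ¬ P ≤ V) :
    ∃ v ∈ V, ∃ x ∈ P, v ∉ Z ∧ ⁅v, x⁆ ≠ 1 ∧ P ≤ Z ⊔ Subgroup.zpowers v ⊔ Subgroup.zpowers x := by
  classical
  set mk := QuotientGroup.mk' V with hmk
  set Pb := P.map mk with hPb
  have hPbab : IsMulCommutative Pb := ⟨⟨fun a b => by
    obtain ⟨a', ha', hae⟩ := a.2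
    obtain ⟨b', hb', hbe⟩ := b.2
    refine Subtype.ext ?_
    show (a : L ⧸ V) * b = b * a
    rw [← hae, ← hbe, ← commutatorElement_eq_one_iff_mul_comm, ← map_commutatorElement, hmk,
      QuotientGroup.mk'_apply, QuotientGroup.eq_one_iff]
    exact hZV (hcm _ ha' _ hb')⟩⟩
  set Q := pPrimeCore p (L ⧸ V) with hQ
  have hQp : ¬ p ∣ Nat.card Q := CfsgLib.Constrained.pPrimeCore_not_dvd
  have hsol' : IsPSolvable p (L ⧸ V) := CfsgLib.Constrained.IsPSolvable.quotient hsol _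
  have hO' : pCore p (L ⧸ V) = ⊥ := by
    rw [CfsgLib.Constrained.pCore_quotient_of_le hV, hpc, QuotientGroup.map_mk'_self]
  obtain ⟨B, hBP, a, ha, hBa, g, hgQ, hgB, hga⟩ : ∃ B : Subgroup (L ⧸ V), B ≤ Pb ∧ ∃ a ∈ Pb,
      B ⊔ Subgroup.zpowers a = Pb ∧ ∃ g ∈ Q, (∀ b ∈ B, b * g = g * b) ∧ a * g ≠ g * a := by
    by_contra hcon
    push Not at hcon
    refine hne fun x hx => ?_
    have hcopQ : (Nat.card Pb).Coprime (Nat.card Q) := by
      obtain ⟨i, hi⟩ := IsPGroup.iff_card.1 (hP.map mk)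
      rw [hi]
      exact Nat.Coprime.pow_left _ (hp.out.coprime_iff_not_dvd.2 hQp)
    have hQK : Q ≤ Subgroup.centralizer (Pb : Set (L ⧸ V)) := by
      refine CfsgLib.Coprime.le_of_cocyclic hPbab (by rw [Subgroup.normalizer_eq_top]; exact le_top) hcopQ
        fun B hB ⟨a, ha, hBa⟩ g hg => ?_
      have hgB : ∀ b ∈ B, b * g = g * b := fun b hb => Subgroup.mem_centralizer_iff.1 hg.2 b hb
      have hga := hcon B hB a ha hBa g hg.1 hgB
      have h1 : Pb ≤ Subgroup.centralizer ({g} : Set (L ⧸ V)) := by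
        rw [← hBa]
        exact sup_le (fun b hb => Subgroup.mem_centralizer_singleton_iff.2 (hgB b hb))
          (Subgroup.zpowers_le.2 (Subgroup.mem_centralizer_singleton_iff.2 hga))
      exact Subgroup.mem_centralizer_iff.2 fun y hy => Subgroup.mem_centralizer_singleton_iff.1 (h1 hy)
    have hxQ : mk x ∈ Q := by
      refine CfsgLib.TISolvable.centralizer_pPrimeCore_le hsol' hO' (Subgroup.mem_centralizer_iff.2
        fun q hq => ?_)
      exact (Subgroup.mem_centralizer_iff.1 (hQK hq) (mk x) ⟨x, hx, rfl⟩).symm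
    have hdvd := Subgroup.orderOf_dvd_natCard Q hxQ
    obtain ⟨i, hi⟩ := (hP.map mk) ⟨mk x, x, hx, rfl⟩
    obtain ⟨j, -, hj⟩ := (Nat.dvd_prime_pow hp.out).1
      (orderOf_dvd_of_pow_eq_one (congrArg Subtype.val hi : (mk x) ^ p ^ i = 1))
    rw [hj] at hdvd
    rcases Nat.eq_zero_or_pos j with rfl | hj0
    · rw [pow_zero, orderOf_eq_one_iff] at hj
      exact (QuotientGroup.eq_one_iff x).1 hj
    · exact absurd ((dvd_pow_self p hj0.ne').trans hdvd) hQp
  obtain ⟨x, hxP, hxa⟩ := ha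
  obtain ⟨gh, hgh⟩ := QuotientGroup.mk'_surjective V g
  set Bh := P ⊓ B.comap mk with hBh
  have hcen : ∀ z ∈ Z, ∀ y ∈ P, y * z * y⁻¹ = z := fun z hz y hy => by
    rw [hZc z hz y hy, mul_inv_cancel_right]
  -- the layer argument
  have layer : ∀ N : Subgroup L, N ≤ Z → (∀ n ∈ N, gh * n * gh⁻¹ ∈ N) → (∀ w ∈ V, ⁅w, x⁆ ∈ N) → False := by
    intro N hNZ hgN hxN
    have hgN' : ∀ n ∈ N, gh⁻¹ * n * gh ∈ N := by
      have heq : N.map (MulAut.conj gh).toMonoidHom = N := by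
        refine Subgroup.eq_of_le_of_card_ge ?_
          (Subgroup.card_map_of_injective (f := (MulAut.conj gh).toMonoidHom) (MulAut.conj gh).injective).ge
        rintro _ ⟨n, hn, rfl⟩
        exact hgN n hn
      intro n hn
      obtain ⟨m, hm, rfl⟩ : n ∈ N.map (MulAut.conj gh).toMonoidHom := heq.symm ▸ hn
      show gh⁻¹ * (gh * m * gh⁻¹) * gh ∈ N
      rwa [show gh⁻¹ * (gh * m * gh⁻¹) * gh = m by group]
    set c := gh * x * gh⁻¹ * x⁻¹ with hc
    have hxn : ∀ n ∈ N, x * n * x⁻¹ = n := fun n hn => hcen n (hNZ hn) x hxP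
    have hxn' : ∀ n ∈ N, x⁻¹ * n * x = n := fun n hn => by
      have h := hcen n (hNZ hn) x⁻¹ (inv_mem hxP)
      rwa [inv_inv] at h
    have hcn : ∀ n ∈ N, c * n * c⁻¹ = n := fun n hn => by
      calc c * n * c⁻¹ = gh * (x * (gh⁻¹ * (x⁻¹ * n * x) * gh) * x⁻¹) * gh⁻¹ := by rw [hc]; group
        _ = gh * (gh⁻¹ * n * gh) * gh⁻¹ := by rw [hxn' n hn, hxn _ (hgN' n hn)]
        _ = n := by group
    have hcw : ∀ w ∈ V, c * w * c⁻¹ * w⁻¹ ∈ N := by
      intro w hw
      have hA : ∀ u ∈ V, ∃ n ∈ N, x * u * x⁻¹ = n * u := fun u hu =>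
        ⟨⁅u, x⁆⁻¹, inv_mem (hxN u hu), by simp only [commutatorElement_def]; group⟩
      have hA' : ∀ u ∈ V, ∃ n ∈ N, x⁻¹ * u * x = n * u := fun u hu => by
        obtain ⟨n, hn, hne'⟩ := hA u hu
        refine ⟨n⁻¹, inv_mem hn, ?_⟩
        calc x⁻¹ * u * x = x⁻¹ * (n⁻¹ * (x * u * x⁻¹)) * x := by rw [hne']; group
          _ = (x⁻¹ * n⁻¹ * x) * u := by group
          _ = _ := by rw [hxn' _ (inv_mem hn)]
      obtain ⟨n1, hn1, e1⟩ := hA' w hw
      have hu : gh⁻¹ * w * gh ∈ V := by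
        simpa using (inferInstance : V.Normal).conj_mem w hw gh⁻¹
      obtain ⟨n2, hn2, e2⟩ := hA _ hu
      have h : c * w * c⁻¹ * w⁻¹ = gh * ((gh⁻¹ * n1 * gh) * n2) * gh⁻¹ := by
        calc c * w * c⁻¹ * w⁻¹ = gh * (x * (gh⁻¹ * (x⁻¹ * w * x) * gh) * x⁻¹) * gh⁻¹ * w⁻¹ := by
              rw [hc]; group
          _ = gh * ((x * (gh⁻¹ * n1 * gh) * x⁻¹) * (x * (gh⁻¹ * w * gh) * x⁻¹)) * gh⁻¹ * w⁻¹ := by
              rw [e1]; group
          _ = gh * ((gh⁻¹ * n1 * gh) * (n2 * (gh⁻¹ * w * gh))) * gh⁻¹ * w⁻¹ := by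
              rw [hxn _ (hgN' _ hn1), e2]
          _ = _ := by group
      rw [h]
      exact hgN _ (mul_mem (hgN' _ hn1) hn2)
    have hmc : mk c = g * a * g⁻¹ * a⁻¹ := by
      rw [hc, map_mul, map_mul, map_mul, map_inv, map_inv, hgh, hxa]
    have hcQ : mk c ∈ Q := by
      rw [hmc, show g * a * g⁻¹ * a⁻¹ = g * (a * g⁻¹ * a⁻¹) by group]
      exact mul_mem hgQ ((Cfsg.pPrimeCore_normal p (L ⧸ V)).conj_mem _ (inv_mem hgQ) a)
    set m := orderOf (mk c) with hm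
    have hmV : c ^ m ∈ V := by
      rw [← QuotientGroup.eq_one_iff, ← QuotientGroup.mk'_apply, map_pow]
      exact pow_orderOf_eq_one (mk c)
    have hmcop : m.Coprime p :=
      (hp.out.coprime_iff_not_dvd.2 fun h => hQp (h.trans (Subgroup.orderOf_dvd_natCard Q hcQ))).symm
    have hcC : c ∈ Subgroup.centralizer (V : Set L) := by
      refine Subgroup.mem_centralizer_iff.2 fun w hw => ?_
      set n := c * w * c⁻¹ * w⁻¹ with hn
      have hnN : n ∈ N := hcw w hw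
      have hiter : ∀ i : ℕ, c ^ i * w * (c ^ i)⁻¹ = n ^ i * w := by
        intro i
        induction i with
        | zero => simp
        | succ i ih =>
          calc c ^ (i + 1) * w * (c ^ (i + 1))⁻¹ = c * (c ^ i * w * (c ^ i)⁻¹) * c⁻¹ := by
                rw [pow_succ']; group
            _ = (c * n ^ i * c⁻¹) * (c * w * c⁻¹) := by rw [ih]; group
            _ = n ^ i * (n * w) := by rw [hcn _ (pow_mem hnN i), hn, inv_mul_cancel_right]
            _ = _ := by rw [← mul_assoc, ← pow_succ]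
      have h1 := hiter m
      rw [hab _ hmV _ hw, mul_inv_cancel_right, eq_comm, mul_eq_right] at h1
      have h2 : n = 1 := orderOf_eq_one_iff.1 (Nat.eq_one_of_dvd_coprimes hmcop
        (orderOf_dvd_of_pow_eq_one h1) (orderOf_dvd_of_pow_eq_one (hexp _ (hZV (hNZ hnN)))))
      rw [hn, mul_inv_eq_one, mul_inv_eq_iff_eq_mul] at h2
      exact h2.symm
    have h3 : mk c = 1 := (QuotientGroup.eq_one_iff c).2 (hC hcC)
    rw [hmc, mul_inv_eq_one, mul_inv_eq_iff_eq_mul] at h3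
    exact hga h3.symm
  -- the centralizer of `Bh` in `V`
  set N : Subgroup L := V ⊓ Subgroup.centralizer (Bh : Set L) with hN
  have hBhg : ∀ b ∈ Bh, ∃ u ∈ V, gh⁻¹ * b * gh = b * u := by
    intro b hb
    refine ⟨b⁻¹ * (gh⁻¹ * b * gh), ?_, by rw [mul_inv_cancel_left]⟩
    rw [← QuotientGroup.eq_one_iff, ← QuotientGroup.mk'_apply, map_mul, map_mul, map_mul, map_inv, map_inv,
      hgh]
    have h := hgB (mk b) hb.2
    rw [mul_assoc g⁻¹, h, inv_mul_cancel_left, inv_mul_cancel]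
  have hgN : ∀ w ∈ N, gh * w * gh⁻¹ ∈ N := by
    intro w hw
    refine ⟨(inferInstance : V.Normal).conj_mem w hw.1 gh, Subgroup.mem_centralizer_iff.2 fun b hb => ?_⟩
    obtain ⟨u, hu, hbu⟩ := hBhg b hb
    have h1 : b * u * w = w * (b * u) := by
      rw [mul_assoc, hab u hu w hw.1, ← mul_assoc, Subgroup.mem_centralizer_iff.1 hw.2 b hb, mul_assoc]
    calc b * (gh * w * gh⁻¹) = gh * ((gh⁻¹ * b * gh) * w) * gh⁻¹ := by group
      _ = gh * (w * (gh⁻¹ * b * gh)) * gh⁻¹ := by rw [hbu, h1]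
      _ = _ := by group
  by_cases hcase : N ≤ Z
  · exact (layer N hcase hgN fun w hw => Subgroup.mem_inf.2 ⟨hZV (hcm w (hVP hw) x hxP),
      Subgroup.mem_centralizer_iff.2 fun b hb => hZc _ (hcm w (hVP hw) x hxP) b hb.1⟩).elim
  obtain ⟨v, hvN, hvZ⟩ := SetLike.not_le_iff_exists.1 hcase
  have hvV : v ∈ V := hvN.1
  set z := ⁅v, x⁆ with hz
  have hzZ : z ∈ Z := hcm v (hVP hvV) x hxP
  have hbil : ∀ w ∈ P, ∀ y ∈ P, ∀ y' ∈ P, ⁅w, y * y'⁆ = ⁅w, y⁆ * ⁅w, y'⁆ := fun w hw y hy y' hy' => by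
    calc ⁅w, y * y'⁆ = ⁅w, y⁆ * (y * ⁅w, y'⁆ * y⁻¹) := by simp only [commutatorElement_def]; group
      _ = _ := by rw [hcen _ (hcm w hw y' hy') y hy]
  have hxpow : ∀ w ∈ P, ∀ k : ℤ, ⁅w, x ^ k⁆ = ⁅w, x⁆ ^ k := by
    intro w hw k
    induction k with
    | zero => rw [zpow_zero, zpow_zero, commutatorElement_one_right]
    | succ i ih => rw [zpow_add_one, hbil w hw _ (zpow_mem hxP _) _ hxP, ih, zpow_add_one]
    | pred i ih =>
      have h := hbil w hw _ (zpow_mem hxP (-(i : ℤ) - 1)) _ hxP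
      rw [← zpow_add_one, sub_add_cancel, ih] at h
      rw [zpow_sub_one ⁅w, x⁆, h, mul_inv_cancel_right]
  have hdecomp : ∀ y ∈ P, ∃ b ∈ Bh, ∃ k : ℤ, ∃ u ∈ V, y = b * x ^ k * u := by
    intro y hy
    have h1 : mk y ∈ B ⊔ Subgroup.zpowers a := hBa.symm ▸ ⟨y, hy, rfl⟩
    haveI : (B.subgroupOf Pb).Normal := ⟨fun n hn t => by
      rw [Subgroup.mem_subgroupOf] at hn ⊢
      have hcm' := (hPbab.is_comm.comm t n)
      rw [Subgroup.coe_mul, Subgroup.coe_mul, Subgroup.coe_inv,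
        show (t : L ⧸ V) * n = n * t from congrArg Subtype.val hcm', mul_inv_cancel_right]
      exact hn⟩
    obtain ⟨bb, hbb, k, hk⟩ : ∃ bb ∈ B, ∃ k : ℤ, bb * a ^ k = mk y := by
      have hle : B ⊔ Subgroup.zpowers a ≤ Subgroup.closure ((B : Set (L ⧸ V)) ∪ {a}) :=
        sup_le (fun b hb => Subgroup.subset_closure (Or.inl hb))
          (Subgroup.zpowers_le.2 (Subgroup.subset_closure (Or.inr rfl)))
      have hcl := hle h1
      generalize mk y = s₀ at hcl ⊢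
      induction hcl using Subgroup.closure_induction with
      | mem s hs =>
        rcases hs with hs | hs
        · exact ⟨s, hs, 0, by rw [zpow_zero, mul_one]⟩
        · rw [Set.mem_singleton_iff] at hs
          subst hs
          exact ⟨1, one_mem _, 1, by rw [zpow_one, one_mul]⟩
      | one => exact ⟨1, one_mem _, 0, by rw [zpow_zero, mul_one]⟩
      | mul s t _ _ hs ht =>
        obtain ⟨b1, hb1, k1, e1⟩ := hs
        obtain ⟨b2, hb2, k2, e2⟩ := ht
        refine ⟨b1 * b2, mul_mem hb1 hb2, k1 + k2, ?_⟩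
        have hc' : a ^ k1 * b2 = b2 * a ^ k1 := congrArg Subtype.val (hPbab.is_comm.comm
          (⟨a ^ k1, zpow_mem (hxa ▸ ⟨x, hxP, rfl⟩) k1⟩ : Pb) ⟨b2, hBP hb2⟩)
        rw [← e1, ← e2, zpow_add, mul_assoc b1 b2, ← mul_assoc b2, ← hc']
        group
      | inv s _ hs =>
        obtain ⟨b1, hb1, k1, e1⟩ := hs
        refine ⟨b1⁻¹, inv_mem hb1, -k1, ?_⟩
        have hc' : a ^ (-k1) * b1⁻¹ = b1⁻¹ * a ^ (-k1) := congrArg Subtype.val (hPbab.is_comm.comm
          (⟨a ^ (-k1), zpow_mem (hxa ▸ ⟨x, hxP, rfl⟩) _⟩ : Pb) ⟨b1⁻¹, hBP (inv_mem hb1)⟩)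
        rw [← e1, mul_inv_rev, ← zpow_neg, hc']
    obtain ⟨b, hbP, hbeq⟩ := hBP hbb
    refine ⟨b, ⟨hbP, show mk b ∈ B from hbeq ▸ hbb⟩, k, (b * x ^ k)⁻¹ * y, ?_, by rw [mul_inv_cancel_left]⟩
    rw [← QuotientGroup.eq_one_iff, ← QuotientGroup.mk'_apply, map_mul, map_inv, map_mul, map_zpow]
    rw [show mk b = bb from hbeq, show mk x = a from hxa, hk, inv_mul_cancel]
  have hgen : ∀ c ∈ P, ∀ d ∈ P, ⁅c, d⁆ ∈ Subgroup.zpowers z := by
    intro c hc d hd
    refine (?_ : Subgroup.closure {w | ∃ y ∈ P, ⁅v, y⁆ = w} ≤ Subgroup.zpowers z)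
      (hfull v (hVP hvV) hvZ c hc d hd)
    rw [Subgroup.closure_le]
    rintro _ ⟨y, hy, rfl⟩
    obtain ⟨b, hb, k, u, hu, rfl⟩ := hdecomp y hy
    rw [hbil v (hVP hvV) _ (mul_mem hb.1 (zpow_mem hxP k)) _ (hVP hu), hbil v (hVP hvV) _ hb.1 _ (zpow_mem hxP k),
      hxpow v (hVP hvV), show ⁅v, b⁆ = 1 from commutatorElement_eq_one_iff_mul_comm.2
        (Subgroup.mem_centralizer_iff.1 hvN.2 b hb).symm,
      show ⁅v, u⁆ = 1 from commutatorElement_eq_one_iff_mul_comm.2 (hab v hvV u hu), one_mul, mul_one]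
    exact zpow_mem (Subgroup.mem_zpowers z) k
  have hz1 : z ≠ 1 := by
    intro h1
    refine hne fun y hy => hC (Subgroup.mem_centralizer_iff.2 fun w hw => ?_)
    have h := hgen w (hVP hw) y hy
    rw [h1, Subgroup.zpowers_one_eq_bot, Subgroup.mem_bot] at h
    exact commutatorElement_eq_one_iff_mul_comm.1 h
  by_cases hBV : Bh ≤ V
  · refine ⟨v, hvV, x, hxP, hvZ, hz1, fun y hy => ?_⟩
    obtain ⟨b, hb, k, u, hu, rfl⟩ := hdecomp y hy
    have hVgen : ∀ w ∈ V, w ∈ Z ⊔ Subgroup.zpowers v := by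
      intro w hw
      obtain ⟨j, hj⟩ := hgen w (hVP hw) x hxP
      have hw' : w * (v ^ j)⁻¹ ∈ Z := by
        by_contra hnot
        have hwv : w * (v ^ j)⁻¹ ∈ V := mul_mem hw (inv_mem (zpow_mem hvV j))
        have h0 : ⁅w * (v ^ j)⁻¹, x⁆ = 1 := by
          have hleft : ∀ s ∈ V, ∀ t ∈ V, ⁅s * t, x⁆ = ⁅s, x⁆ * ⁅t, x⁆ := fun s hs t ht => by
            calc ⁅s * t, x⁆ = (s * ⁅t, x⁆ * s⁻¹) * ⁅s, x⁆ := by simp only [commutatorElement_def]; group
              _ = ⁅t, x⁆ * ⁅s, x⁆ := by rw [hcen _ (hcm t (hVP ht) x hxP) s (hVP hs)]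
              _ = _ := hab _ (hZV (hcm t (hVP ht) x hxP)) _ (hZV (hcm s (hVP hs) x hxP))
          have hvj : ∀ i : ℤ, ⁅v ^ i, x⁆ = z ^ i := by
            intro i
            induction i with
            | zero => rw [zpow_zero, zpow_zero, commutatorElement_one_left]
            | succ n ih => rw [zpow_add_one, hleft _ (zpow_mem hvV _) _ hvV, ih, zpow_add_one]
            | pred n ih =>
              have h := hleft _ (zpow_mem hvV (-(n : ℤ) - 1)) _ hvV
              rw [← zpow_add_one, sub_add_cancel, ih] at h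
              rw [zpow_sub_one z, h, mul_inv_cancel_right]
          rw [hleft w hw _ (inv_mem (zpow_mem hvV j)), ← zpow_neg, hvj, ← hj]
          show z ^ j * z ^ (-j) = 1
          rw [← zpow_add, add_neg_cancel, zpow_zero]
        have hall : ∀ y ∈ P, ⁅w * (v ^ j)⁻¹, y⁆ = 1 := by
          intro y hy
          obtain ⟨b', hb', k', u', hu', rfl⟩ := hdecomp y hy
          rw [hbil _ (hVP hwv) _ (mul_mem hb'.1 (zpow_mem hxP k')) _ (hVP hu'),
            hbil _ (hVP hwv) _ hb'.1 _ (zpow_mem hxP k'), hxpow _ (hVP hwv), h0,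
            show ⁅w * (v ^ j)⁻¹, b'⁆ = 1 from commutatorElement_eq_one_iff_mul_comm.2
              (hab _ hwv _ (hBV hb')),
            show ⁅w * (v ^ j)⁻¹, u'⁆ = 1 from commutatorElement_eq_one_iff_mul_comm.2 (hab _ hwv _ hu'),
            one_zpow, one_mul, mul_one]
        have h9 := hfull _ (hVP hwv) hnot v (hVP hvV) x hxP
        have h10 : Subgroup.closure {t | ∃ y ∈ P, ⁅w * (v ^ j)⁻¹, y⁆ = t} ≤ (⊥ : Subgroup L) := by
          rw [Subgroup.closure_le]
          rintro _ ⟨y, hy, rfl⟩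
          exact Subgroup.mem_bot.2 (hall y hy)
        exact hz1 (Subgroup.mem_bot.1 (h10 h9))
      rw [show w = w * (v ^ j)⁻¹ * v ^ j by rw [inv_mul_cancel_right]]
      exact Subgroup.mul_mem_sup hw' (zpow_mem (Subgroup.mem_zpowers v) j)
    refine mul_mem (mul_mem ?_ ?_) ?_
    · exact Subgroup.mem_sup_left (hVgen b (hBV hb))
    · exact Subgroup.mem_sup_right (zpow_mem (Subgroup.mem_zpowers x) k)
    · exact Subgroup.mem_sup_left (hVgen u hu)
  · exfalso
    obtain ⟨b, hb, hbV⟩ := SetLike.not_le_iff_exists.1 hBV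
    obtain ⟨w0, hw0, hw0b⟩ : ∃ w0 ∈ V, ⁅w0, b⁆ ≠ 1 := by
      by_contra h
      push Not at h
      exact hbV (hC (Subgroup.mem_centralizer_iff.2 fun w hw =>
        commutatorElement_eq_one_iff_mul_comm.1 (h w hw)))
    obtain ⟨u, hu, hbu⟩ := hBhg b hb
    have hconj : gh * ⁅w0, b⁆ * gh⁻¹ ∈ Subgroup.zpowers z := by
      have hbu' : gh * b * gh⁻¹ = b * (gh * u⁻¹ * gh⁻¹) := by
        calc gh * b * gh⁻¹ = gh * (b * u) * gh⁻¹ * (gh * u⁻¹ * gh⁻¹) := by group
          _ = _ := by rw [← hbu]; group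
      have he : gh * ⁅w0, b⁆ * gh⁻¹ = ⁅gh * w0 * gh⁻¹, b * (gh * u⁻¹ * gh⁻¹)⁆ := by
        rw [← hbu']; simp only [commutatorElement_def]; group
      rw [he]
      exact hgen _ (hVP ((inferInstance : V.Normal).conj_mem w0 hw0 gh)) _
        (mul_mem hb.1 (hVP ((inferInstance : V.Normal).conj_mem _ (inv_mem hu) gh)))
    have hzp : z ^ p = 1 := hexp z (hZV hzZ)
    have hgz : ∀ n ∈ Subgroup.zpowers z, gh * n * gh⁻¹ ∈ Subgroup.zpowers z := by
      have hzle : Subgroup.zpowers z ≤ Subgroup.zpowers ⁅w0, b⁆ := by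
        obtain ⟨i, hi⟩ := hgen w0 (hVP hw0) b hb.1
        rw [Subgroup.zpowers_le]
        have hdiv : ¬ (p : ℤ) ∣ i := fun hdvd => hw0b (by
          obtain ⟨t, ht⟩ := hdvd
          rw [← hi, ht]
          show z ^ ((p : ℤ) * t) = 1
          rw [zpow_mul, zpow_natCast, hzp, one_zpow])
        obtain ⟨s, t, hst⟩ := (Nat.prime_iff_prime_int.1 hp.out).irreducible.coprime_iff_not_dvd.2 hdiv
        refine ⟨t, ?_⟩
        show ⁅w0, b⁆ ^ t = z
        rw [← hi]
        show (z ^ i) ^ t = z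
        calc (z ^ i) ^ t = z ^ (s * (p : ℤ) + t * i) := by
              rw [← zpow_mul, zpow_add, mul_comm s, zpow_mul z (p : ℤ), zpow_natCast, hzp, one_zpow, one_mul,
                mul_comm i]
          _ = z := by rw [hst, zpow_one]
      intro n hn
      obtain ⟨i, rfl⟩ := hzle hn
      show gh * ⁅w0, b⁆ ^ i * gh⁻¹ ∈ _
      rw [← conj_zpow]
      exact zpow_mem hconj i
    exact layer _ (Subgroup.zpowers_le.2 hzZ) hgz fun w hw => hgen w (hVP hw) x hxP

/-- The theorem for `O_{p'}(G) = 1`. -/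
theorem le_pCore_of_fixesProper {p r : ℕ} [hp : Fact p.Prime] (hr : r.Prime) (hrp : r ≠ p) {G : Type u}
    [Group G] [Finite G] (hsol : IsPSolvable p G) (hO : pPrimeCore p G = ⊥) (P : Subgroup G)
    (hP : IsPGroup p P) (hle : pCore p G ≤ P) {σ : MulAut P} (hσ : σ ^ r = 1) (hσ1 : σ ≠ 1)
    (hfix : FixesProper σ) : P ≤ pCore p G := by
  classical
  set V := pCore p G with hVdef
  have hVp : IsPGroup p V := CfsgLib.Constrained.isPGroup_pCore
  have hcV : Subgroup.centralizer (V : Set G) ≤ V := CfsgLib.Constrained.centralizer_pCore_le hsol hO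
  by_cases hnab : Subgroup.center P = ⊤
  · intro x hx
    refine hcV (Subgroup.mem_centralizer_iff.2 fun w hw => ?_)
    exact congrArg Subtype.val (Subgroup.mem_center_iff.1 (hnab ▸ Subgroup.mem_top (⟨x, hx⟩ : P)) ⟨w, hle hw⟩)
  obtain ⟨hZΦ, -, -, hfull⟩ := fixesProper_structure hP hr hrp hσ hσ1 hfix hnab
  set Zc := (Subgroup.center P).map P.subtype with hZc
  have hcmP : ∀ a b : P, ⁅a, b⁆ ∈ Subgroup.center P := fun a b =>
    hZΦ ▸ CfsgLib.PGroup.commutatorElement_mem_frattini hP a b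
  have hpowP : ∀ a : P, a ^ p ∈ Subgroup.center P := fun a =>
    hZΦ ▸ CfsgLib.PGroup.pow_prime_mem_frattini hP a
  have hcm : ∀ a ∈ P, ∀ b ∈ P, ⁅a, b⁆ ∈ Zc := fun a ha b hb =>
    ⟨⁅(⟨a, ha⟩ : P), ⟨b, hb⟩⁆, hcmP _ _, map_commutatorElement P.subtype _ _⟩
  have hcen : ∀ z ∈ Zc, ∀ y ∈ P, y * z = z * y := by
    rintro _ ⟨z, hz, rfl⟩ y hy
    exact congrArg Subtype.val (Subgroup.mem_center_iff.1 hz ⟨y, hy⟩)
  have hZV : Zc ≤ V := fun z hz => hcV (Subgroup.mem_centralizer_iff.2 fun w hw => hcen z hz w (hle hw))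
  have hpowV : ∀ a ∈ P, a ^ p ∈ V := fun a ha => hZV ⟨(⟨a, ha⟩ : P) ^ p, hpowP _, rfl⟩
  by_contra hne
  rcases Nat.lt_or_ge 3 p with hp3 | hp3
  · -- large `p`: theorem B
    obtain ⟨x, hxP, hxV⟩ := SetLike.not_le_iff_exists.1 hne
    have hord : orderOf (x : G ⧸ V) = p ^ 1 := by
      rw [pow_one]
      exact orderOf_eq_prime (by rw [← QuotientGroup.mk_pow, QuotientGroup.eq_one_iff]; exact hpowV x hxP)
        (by rwa [Ne, QuotientGroup.eq_one_iff])
    have hquad : (rep p G (x : G ⧸ V) - 1) ^ 2 = 0 := by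
      let bc := Module.End.baseChangeHom (ZMod p) (Clo p) (Additive (FrattQuot p G))
      let D := autLin p G (conjAut p G x) - 1
      have hbc : bc D = rep p G (x : G ⧸ V) - 1 := by
        show bc (_ - 1) = _
        rw [map_sub, map_one]; rfl
      have hD : ∀ w : ↥V, D (Additive.ofMul (w : FrattQuot p G)) =
          Additive.ofMul (((MulAut.conjNormal x w * w⁻¹ : ↥V)) : FrattQuot p G) := fun w => by
        rw [QuotientGroup.mk_mul, QuotientGroup.mk_inv, ofMul_mul, ofMul_inv, ← sub_eq_add_neg]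
        rfl
      have h0 : D * D = 0 := LinearMap.ext fun w => by
        obtain ⟨w', hw'⟩ := QuotientGroup.mk_surjective (Additive.toMul w)
        obtain rfl : Additive.ofMul (w' : FrattQuot p G) = w := by rw [hw']; rfl
        rw [Module.End.mul_apply, hD, hD]
        have hmem : ((MulAut.conjNormal x w' * w'⁻¹ : ↥V) : G) ∈ Zc := by
          rw [Subgroup.coe_mul, MulAut.conjNormal_apply, Subgroup.coe_inv, ← commutatorElement_def]
          exact hcm x hxP _ (hle w'.2)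
        set u := MulAut.conjNormal x w' * w'⁻¹
        have h1 : MulAut.conjNormal x u = u := Subtype.ext (by
          rw [MulAut.conjNormal_apply, hcen _ hmem x hxP, mul_inv_cancel_right])
        rw [h1, mul_inv_cancel]
        rfl
      rw [← hbc, sq, ← map_mul, h0, map_zero]
    rcases CfsgLib.HallHigmanB.theorem_b (rep p G) (rep_injective p G hsol hO)
      (CfsgLib.Constrained.IsPSolvable.quotient hsol _) CfsgLib.Constrained.pCore_quotient_pCore
      (x : G ⧸ V) 1 le_rfl hord 2 hquad with h | ⟨n₀, q, m, h1, h2, -, -, -, -, h6⟩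
    · rw [pow_one] at h
      omega
    · obtain rfl : n₀ = 1 := by omega
      rw [Nat.sub_self, pow_zero, pow_one, one_mul] at h6
      omega
  -- small `p`: the structural argument in `G / Φ(V)`
  set U := (frattini ↥V).map V.subtype with hU
  haveI : U.Normal := inferInstance
  have hUV : U ≤ V := Subgroup.map_subtype_le _
  have hUZ : U ≤ Zc := by
    rw [hU, Subgroup.map_le_iff_le_comap]
    haveI : (Zc.comap V.subtype).Normal := ⟨fun z hz w => by
      rw [Subgroup.mem_comap] at hz ⊢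
      rw [map_mul, map_mul, map_inv]
      rw [show V.subtype w * V.subtype z = V.subtype z * V.subtype w from hcen _ hz _ (hle w.2),
        mul_inv_cancel_right]
      exact hz⟩
    refine CfsgLib.PGroup.frattini_le_of_elementary (p := p) (fun a b => ?_) fun a => ?_
    · rw [Subgroup.mem_comap, map_commutatorElement]
      exact hcm _ (hle a.2) _ (hle b.2)
    · exact ⟨(⟨a, hle a.2⟩ : P) ^ p, hpowP _, rfl⟩
  set mk := QuotientGroup.mk' U with hmk
  have hUp : IsPGroup p U := hVp.to_le hUV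
  haveI : (V.map mk).Normal := Subgroup.Normal.map inferInstance _ (QuotientGroup.mk'_surjective U)
  have hUmem : ∀ w : ↥V, w ∈ frattini ↥V → mk (w : G) = 1 := fun w hw =>
    (QuotientGroup.eq_one_iff _).2 ⟨w, hw, rfl⟩
  obtain ⟨v, hv, x, hx, hvZ, hvx, hgen⟩ := schmidt_core (p := p)
    (CfsgLib.Constrained.IsPSolvable.quotient hsol U) (V.map mk) (hVp.map mk)
    (by
      rintro _ ⟨w, hw, rfl⟩
      rw [← map_pow]
      exact hUmem ⟨w ^ p, pow_mem hw p⟩ (CfsgLib.PGroup.pow_prime_mem_frattini hVp ⟨w, hw⟩))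
    (by
      rintro _ ⟨a, ha, rfl⟩ _ ⟨b, hb, rfl⟩
      rw [← commutatorElement_eq_one_iff_mul_comm, ← map_commutatorElement]
      exact hUmem ⁅(⟨a, ha⟩ : ↥V), ⟨b, hb⟩⁆ (CfsgLib.PGroup.commutatorElement_mem_frattini hVp _ _))
    (by
      intro l hl
      obtain ⟨g, rfl⟩ := QuotientGroup.mk'_surjective U l
      refine ⟨g, ?_, rfl⟩
      have h1 : conjAut p G g = 1 := MulEquiv.ext fun w => by
        induction w using QuotientGroup.induction_on with
        | _ w =>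
          rw [conjAut_mk, MulAut.one_apply, QuotientGroup.eq]
          have h2 := Subgroup.mem_centralizer_iff.1 hl (mk (w : G)) ⟨w, w.2, rfl⟩
          obtain ⟨t, ht, hte⟩ : ((MulAut.conjNormal g w)⁻¹ * w : ↥V).1 ∈ U := by
            rw [← QuotientGroup.eq_one_iff, Subgroup.coe_mul, Subgroup.coe_inv, MulAut.conjNormal_apply,
              ← QuotientGroup.mk'_apply U, map_mul, map_inv, map_mul, map_mul, map_inv]
            rw [show (QuotientGroup.mk' U) g * (QuotientGroup.mk' U) (w : G) =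
              (QuotientGroup.mk' U) (w : G) * (QuotientGroup.mk' U) g from h2.symm, mul_inv_cancel_right,
              inv_mul_cancel]
          exact (Subtype.ext hte : t = _) ▸ ht
      refine (QuotientGroup.eq_one_iff g).1 (rep_injective p G hsol hO ?_)
      rw [rep_mk, h1, map_one, Module.End.one_eq_id, LinearMap.baseChange_id, map_one]
      rfl)
    (CfsgLib.Constrained.pCore_quotient_of_le hUp)
    (P.map mk) (hP.map mk) (Subgroup.map_mono hle) (Zc.map mk) (Subgroup.map_mono hZV)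
    (by
      rintro _ ⟨z, hz, rfl⟩ _ ⟨y, hy, rfl⟩
      rw [← map_mul, ← map_mul, hcen z hz y hy])
    (by
      rintro _ ⟨a, ha, rfl⟩ _ ⟨b, hb, rfl⟩
      exact ⟨⁅a, b⁆, hcm a ha b hb, map_commutatorElement mk a b⟩)
    (by
      rintro _ ⟨a, ha, rfl⟩
      exact ⟨a ^ p, ⟨(⟨a, ha⟩ : P) ^ p, hpowP _, rfl⟩, map_pow mk a p⟩)
    (by
      rintro _ ⟨v, hv, rfl⟩ hvZ _ ⟨a, ha, rfl⟩ _ ⟨b, hb, rfl⟩
      have h1 := hfull ⟨v, hv⟩ (fun h => hvZ ⟨v, ⟨⟨v, hv⟩, h, rfl⟩, rfl⟩) ⟨a, ha⟩ ⟨b, hb⟩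
      have h2 := Subgroup.mem_map_of_mem (mk.comp P.subtype) h1
      rw [map_commutatorElement] at h2
      refine (?_ : (Subgroup.closure _).map (mk.comp P.subtype) ≤ _) h2
      rw [MonoidHom.map_closure]
      refine Subgroup.closure_mono ?_
      rintro _ ⟨_, ⟨y, rfl⟩, rfl⟩
      exact ⟨mk y, ⟨y, y.2, rfl⟩, by rw [map_commutatorElement]; rfl⟩)
    (fun h => hne fun y hy => by
      obtain ⟨w, hw, hwy⟩ := h ⟨y, hy, rfl⟩
      have h1 : w⁻¹ * y ∈ U := QuotientGroup.eq.1 hwy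
      have h2 := mul_mem hw (hUV h1)
      rwa [mul_inv_cancel_left] at h2)
  obtain ⟨v, hv', rfl⟩ := hv
  obtain ⟨x, hx', rfl⟩ := hx
  have hgenP : Subgroup.center P ⊔ Subgroup.zpowers (⟨v, hle hv'⟩ : P) ⊔
      Subgroup.zpowers (⟨x, hx'⟩ : P) = ⊤ := by
    apply Subgroup.map_injective P.subtype_injective
    rw [Subgroup.map_sup, Subgroup.map_sup, MonoidHom.map_zpowers, MonoidHom.map_zpowers,
      ← MonoidHom.range_eq_map, Subgroup.range_subtype]
    show Zc ⊔ Subgroup.zpowers v ⊔ Subgroup.zpowers x = P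
    refine le_antisymm (sup_le (sup_le (Subgroup.map_subtype_le _) (Subgroup.zpowers_le.2 (hle hv')))
      (Subgroup.zpowers_le.2 hx')) fun y hy => ?_
    have h1 := hgen ⟨y, hy, rfl⟩
    rw [← MonoidHom.map_zpowers, ← MonoidHom.map_zpowers, ← Subgroup.map_sup, ← Subgroup.map_sup] at h1
    obtain ⟨t, ht, hty⟩ := h1
    have h2 : t⁻¹ * y ∈ U := QuotientGroup.eq.1 hty
    have h3 := mul_mem ht (Subgroup.mem_sup_left (Subgroup.mem_sup_left (hUZ h2)) :
      t⁻¹ * y ∈ Zc ⊔ Subgroup.zpowers v ⊔ Subgroup.zpowers x)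
    rwa [mul_inv_cancel_left] at h3
  obtain ⟨f, hf, hvf⟩ := fixesProper_rank_two hP hr hrp hσ hσ1 hfix hnab hp3
    (v := (⟨v, hle hv'⟩ : P)) (x := (⟨x, hx'⟩ : P))
    (fun h => hvZ ⟨v, ⟨⟨v, hle hv'⟩, h, rfl⟩, rfl⟩) hgenP
  refine hvx ?_
  rw [← map_commutatorElement]
  have hfV : v * (f : G) ∈ V := mul_mem hv' (hZV ⟨f, hf, rfl⟩)
  have he : ⁅v, x⁆ = (v * (f : G)) ^ p := by
    have h := congrArg P.subtype hvf
    rw [map_commutatorElement, map_pow, map_mul] at h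
    exact h
  rw [he]
  exact hUmem ⟨(v * f) ^ p, pow_mem hfV p⟩ (CfsgLib.PGroup.pow_prime_mem_frattini hVp ⟨_, hfV⟩)

end CfsgLib.PLengthExp
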